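import Cfsg.Agent.Lib.SympLevi.Count
import Cfsg.Agent.Lib.Linear.SpBlocks
import Cfsg.Agent.Lib.AutPSp.Basic

/-!
# The Siegel parabolic of `PSp₄` (owner: helper67)

`sieg`: the Siegel group on triples; `lev`: the Levi group; `uSyl`: a Sylow subgroup.
-/

set_option autoImplicit false
set_option linter.unusedSectionVars false

namespace Cfsg.Agent.SympLevi

open Matrix Cfsg.Agent.Linear

variable {F : Type*} [Field F]

/-- The class map on `spGL`. -/
noncomputable def prS : Cfsg.spGL 2 F →* Cfsg.PSp 2 F :=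
  (AutPSp.pr 2 F).comp (spEquiv 2 F).symm.toMonoidHom

theorem prS_surjective : Function.Surjective (prS (F := F)) :=
  AutPSp.pr_surjective.comp (spEquiv 2 F).symm.surjective

theorem prS_eq_iff {g h : Cfsg.spGL 2 F} :
    prS g = prS h ↔ h.1.1 = g.1.1 ∨ h.1.1 = -g.1.1 := by
  refine AutPSp.pr_eq_iff.trans ?_
  have e : ∀ k : Cfsg.spGL 2 F, ((spEquiv 2 F).symm k).1 = k.1.1 := fun k => by
    rw [← spEquiv_val ((spEquiv 2 F).symm k), MulEquiv.apply_symm_apply]
  rw [show (spEquiv 2 F).symm.toMonoidHom h = (spEquiv 2 F).symm h from rfl,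
    show (spEquiv 2 F).symm.toMonoidHom g = (spEquiv 2 F).symm g from rfl, e, e]

/-- The symmetric matrix of a triple. -/
def symMat (v : V F) : Matrix (Fin 2) (Fin 2) F := !![v.1, v.2.1; v.2.1, v.2.2]

theorem symMat_isSymm (v : V F) : (symMat v).IsSymm := by
  ext i j; fin_cases i <;> fin_cases j <;> rfl

theorem symMat_add (v w : V F) : symMat (v + w) = symMat v + symMat w := by
  ext i j; fin_cases i <;> fin_cases j <;> rfl

theorem symMat_inj {v w : V F} (h : symMat v = symMat w) : v = w :=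
  Prod.ext (congrFun (congrFun h 0) 0)
    (Prod.ext (congrFun (congrFun h 0) 1) (congrFun (congrFun h 1) 1))

theorem exists_symMat {B : Matrix (Fin 2) (Fin 2) F} (hB : B.IsSymm) : ∃ v, symMat v = B :=
  ⟨(B 0 0, B 0 1, B 1 1), by ext i j; fin_cases i <;> fin_cases j <;> simp [symMat, hB.apply 0 1]⟩

theorem symMat_actM (A : Matrix (Fin 2) (Fin 2) F) (v : V F) :
    A * symMat v * Aᵀ = symMat (actM A v) := by
  ext i j
  fin_cases i <;> fin_cases j <;>
    simp [symMat, actM, act, Matrix.mul_apply, Fin.sum_univ_two] <;> ring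

/-- The Siegel element of a triple in `spGL`. -/
noncomputable def siegG (v : V F) : Cfsg.spGL 2 F := spSiegel (symMat v) (symMat_isSymm v)

theorem siegG_add (v w : V F) : siegG (v + w) = siegG v * siegG w := by
  rw [siegG, siegG, siegG, spSiegel_mul]
  congr 1
  exact symMat_add v w

/-- The Siegel group. -/
noncomputable def sieg : Multiplicative (V F) →* Cfsg.PSp 2 F :=
  MonoidHom.mk' (fun v => prS (siegG v.toAdd)) fun v w => by
    rw [← map_mul, ← siegG_add]; rfl

theorem sieg_ofAdd (v : V F) : sieg (Multiplicative.ofAdd v) = prS (siegG v) := rfl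

/-- The Levi group. -/
noncomputable def lev : GL (Fin 2) F →* Cfsg.PSp 2 F := prS.comp spLevi

theorem lev_conj_sieg (A : GL (Fin 2) F) (v : V F) :
    lev A * sieg (Multiplicative.ofAdd v) * (lev A)⁻¹ = sieg (Multiplicative.ofAdd (psi A v)) := by
  show prS (spLevi A) * prS (siegG v) * (prS (spLevi A))⁻¹ = prS (siegG (psi A v))
  rw [← map_inv, ← map_mul, ← map_mul, siegG, spLevi_conj_spSiegel]
  congr 1
  rw [siegG]
  congr 1
  exact symMat_actM A.1 v

theorem lev_eq_one_of_psi {A : GL (Fin 2) F} (h : psi A = 1) : lev A = 1 := by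
  show prS (spLevi A) = 1
  rw [← map_one (prS (F := F)), prS_eq_iff]
  rcases psi_eq_one.1 h with h | h
  · left
    rw [show A = 1 from Units.ext h, map_one]
  · right
    have hinv : (A⁻¹).1 = -1 := by
      rw [show A⁻¹ = A from inv_eq_of_mul_eq_one_left (Units.ext (by simp [h]))]
      exact h
    show (1 : Matrix (Fin 2 ⊕ Fin 2) (Fin 2 ⊕ Fin 2) F) = -(spLevi A).1.1
    rw [spGL_blocks (spLevi A), blkA_spLevi, blkB_spLevi, blkC_spLevi, blkD_spLevi, h, hinv,
      fromBlocks_neg]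
    simp [fromBlocks_one]

theorem lev_eq_of_psi {A A' : GL (Fin 2) F} (h : psi A = psi A') : lev A = lev A' := by
  have h1 : lev (A⁻¹ * A') = 1 := lev_eq_one_of_psi (by rw [map_mul, map_inv, h, inv_mul_cancel])
  rw [map_mul, map_inv, inv_mul_eq_one] at h1
  exact h1

theorem sieg_injective (h2 : (2 : F) ≠ 0) : Function.Injective (sieg (F := F)) := by
  intro v w h
  rcases prS_eq_iff.1 (show prS (siegG v.toAdd) = prS (siegG w.toAdd) from h) with e | e
  · refine Multiplicative.toAdd.injective (symMat_inj ?_)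
    have := congrArg Matrix.toBlocks₁₂ e
    rw [show (siegG w.toAdd).1.1.toBlocks₁₂ = symMat w.toAdd from blkB_spSiegel _,
      show (siegG v.toAdd).1.1.toBlocks₁₂ = symMat v.toAdd from blkB_spSiegel _] at this
    exact this.symm
  · exfalso
    have := congrFun (congrFun e (Sum.inl 0)) (Sum.inl 0)
    rw [Matrix.neg_apply, show (siegG w.toAdd).1.1 (Sum.inl 0) (Sum.inl 0) = 1 from
        (congrFun (congrFun (blkA_spSiegel (symMat_isSymm w.toAdd)) 0) 0).trans (Matrix.one_apply_eq _),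
      show (siegG v.toAdd).1.1 (Sum.inl 0) (Sum.inl 0) = 1 from
        (congrFun (congrFun (blkA_spSiegel (symMat_isSymm v.toAdd)) 0) 0).trans (Matrix.one_apply_eq _)]
      at this
    exact h2 (by linear_combination this)

variable [Fintype F] {p n : ℕ}

theorem siegG_pow (hF : FieldHyp F p n) (v : V F) : siegG v ^ p = 1 := by
  haveI := hF.char
  haveI := Fact.mk hF.prime
  exact spSiegel_pow_char p _

/-- An equation in `PSp₄` between a conjugate of a Siegel element and a Siegel element lifts. -/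
theorem lift_conj (hF : FieldHyp F p n) {g : Cfsg.spGL 2 F} {v w : V F}
    (h : prS g * sieg (Multiplicative.ofAdd v) * (prS g)⁻¹ = sieg (Multiplicative.ofAdd w)) :
    g * siegG v = siegG w * g := by
  rw [sieg_ofAdd, sieg_ofAdd, mul_inv_eq_iff_eq_mul, ← map_mul, ← map_mul, prS_eq_iff] at h
  rcases h with h | h
  · exact Subtype.ext (Units.ext h.symm)
  exfalso
  set z := (g * siegG v)⁻¹ * (siegG w * g) with hz
  have hzv : z.1.1 = -1 := by
    rw [hz, spGL_mul_val, h, Matrix.mul_neg, ← spGL_mul_val, inv_mul_cancel]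
    rfl
  have hzc : ∀ X : Cfsg.spGL 2 F, z * X = X * z := fun X => Subtype.ext (Units.ext (by
    show z.1.1 * X.1.1 = X.1.1 * z.1.1
    rw [hzv]; simp))
  have he : siegG w = g * siegG v * g⁻¹ * z := by
    have : siegG w * g = g * siegG v * z := by rw [hz, mul_inv_cancel_left]
    rw [eq_mul_inv_of_mul_eq this, mul_assoc _ z, hzc, ← mul_assoc]
  have h1 := siegG_pow hF w
  rw [he, (Commute.mul_pow (hzc _).symm), conj_pow, siegG_pow hF v, mul_one, mul_inv_cancel, one_mul] at h1
  have h2 := congrArg (fun X : Cfsg.spGL 2 F => X.1.1) h1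
  simp only [SubgroupClass.coe_pow, Units.val_pow_eq_pow_val, hzv,
    (hF.prime.odd_of_ne_two hF.odd_p).neg_one_pow] at h2
  have h3 := congrFun (congrFun h2 (Sum.inl 0)) (Sum.inl 0)
  simp only [Matrix.neg_apply, Matrix.one_apply_eq, OneMemClass.coe_one, Units.val_one] at h3
  exact hF.two (by linear_combination -h3)

theorem blocks_of_eq {g : Cfsg.spGL 2 F} {v w : V F} (h : g * siegG v = siegG w * g) :
    symMat w * blkC g = 0 ∧ blkA g * symMat v = symMat w * blkD g ∧ blkC g * symMat v = 0 := by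
  obtain ⟨ea, eb, -, ed⟩ := blk_mul g (siegG v)
  obtain ⟨fa, fb, -, fd⟩ := blk_mul (siegG w) g
  rw [h] at ea eb ed
  rw [fa] at ea
  rw [fb] at eb
  rw [fd] at ed
  simp only [siegG, blkA_spSiegel, blkB_spSiegel, blkC_spSiegel, blkD_spSiegel, Matrix.one_mul,
    Matrix.mul_one, Matrix.mul_zero, Matrix.zero_mul, add_zero, zero_add] at ea eb ed
  refine ⟨left_eq_add.1 ea.symm, ?_, left_eq_add.1 (ed.trans (add_comm _ _))⟩
  rw [add_comm (blkB g)] at eb
  exact (add_right_cancel eb).symm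

/-- Centralising one long root element means centralising the whole root group. -/
theorem comm_root (hF : FieldHyp F p n) {X : Cfsg.PSp 2 F} {z : F} (hz : z ≠ 0)
    (h : X * sieg (Multiplicative.ofAdd ((z, 0, 0) : V F)) = sieg (Multiplicative.ofAdd (z, 0, 0)) * X)
    (z' : F) :
    X * sieg (Multiplicative.ofAdd ((z', 0, 0) : V F)) = sieg (Multiplicative.ofAdd (z', 0, 0)) * X := by
  obtain ⟨g, rfl⟩ := prS_surjective X
  obtain ⟨h1, h2, h3⟩ := blocks_of_eq (lift_conj hF (v := (z, 0, 0)) (w := (z, 0, 0))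
    (by rw [h, mul_inv_cancel_right]))
  rw [sieg_ofAdd, ← map_mul, ← map_mul]
  congr 1
  have hs : symMat ((z', 0, 0) : V F) = (z' / z) • symMat ((z, 0, 0) : V F) := by
    ext i j; fin_cases i <;> fin_cases j <;> simp [symMat, hz]
  obtain ⟨ea, eb, ec, ed⟩ := blk_mul g (siegG (z', 0, 0))
  obtain ⟨fa, fb, fc, fd⟩ := blk_mul (siegG (z', 0, 0)) g
  simp only [siegG, blkA_spSiegel, blkB_spSiegel, blkC_spSiegel, blkD_spSiegel, Matrix.one_mul,
    Matrix.mul_one, Matrix.mul_zero, Matrix.zero_mul, add_zero, zero_add] at ea eb ec ed fa fb fc fd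
  refine spGL_ext_blk (ea.trans (fa.trans ?_).symm) (eb.trans (fb.trans ?_).symm)
    (ec.trans fc.symm) (ed.trans (fd.trans ?_).symm)
  · rw [hs, Matrix.smul_mul, h1, smul_zero, add_zero]
  · rw [hs, Matrix.mul_smul, Matrix.smul_mul, h2, add_comm]
  · rw [hs, Matrix.mul_smul, h3, smul_zero, zero_add]

/-- The elements normalising the Siegel group. -/
theorem normal_form (hF : FieldHyp F p n) {X : Cfsg.PSp 2 F}
    (h : ∀ v, ∃ w, X * sieg (Multiplicative.ofAdd v) * X⁻¹ = sieg (Multiplicative.ofAdd w)) :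
    ∃ (A : GL (Fin 2) F) (v : V F), X = lev A * sieg (Multiplicative.ofAdd v) := by
  obtain ⟨g, rfl⟩ := prS_surjective X
  obtain ⟨w, hw⟩ := h (1, 0, 1)
  obtain ⟨-, -, h3⟩ := blocks_of_eq (lift_conj hF hw)
  have h1 : symMat ((1, 0, 1) : V F) = 1 := by
    ext i j; fin_cases i <;> fin_cases j <;> simp [symMat]
  rw [h1, Matrix.mul_one] at h3
  obtain ⟨A, B, hB, -, hg⟩ := exists_spLevi_mul_spSiegel g h3
  obtain ⟨v, hv⟩ := exists_symMat hB
  refine ⟨A, v, ?_⟩
  rw [hg, map_mul]
  congr 1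
  rw [sieg_ofAdd]
  congr 1
  rw [siegG]
  congr 1
  exact hv.symm

theorem conj_of_form (A : GL (Fin 2) F) (v u : V F) :
    (lev A * sieg (Multiplicative.ofAdd v)) * sieg (Multiplicative.ofAdd u) *
        (lev A * sieg (Multiplicative.ofAdd v))⁻¹ = sieg (Multiplicative.ofAdd (psi A u)) := by
  rw [← lev_conj_sieg]
  have hc : sieg (Multiplicative.ofAdd v) * sieg (Multiplicative.ofAdd u) =
      sieg (Multiplicative.ofAdd u) * sieg (Multiplicative.ofAdd v) :=
    ((Commute.all (Multiplicative.ofAdd v) (Multiplicative.ofAdd u)).map (sieg (F := F))).eq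
  rw [_root_.mul_inv_rev, mul_assoc (lev A), hc, ← mul_assoc]
  group

/-- The Siegel group is its own centraliser. -/
theorem cent_sieg (hF : FieldHyp F p n) {X : Cfsg.PSp 2 F}
    (h : ∀ v, X * sieg (Multiplicative.ofAdd v) = sieg (Multiplicative.ofAdd v) * X) :
    ∃ v, X = sieg (Multiplicative.ofAdd v) := by
  obtain ⟨A, v, hX⟩ := normal_form hF (X := X) fun v => ⟨v, by rw [h, mul_inv_cancel_right]⟩
  refine ⟨v, ?_⟩
  have : psi A = 1 := Equiv.ext fun u => by
    have h1 := conj_of_form A v u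
    rw [← hX, h, mul_inv_cancel_right] at h1
    exact (Multiplicative.ofAdd.injective (sieg_injective hF.two h1)).symm
  rw [hX, lev_eq_one_of_psi this, one_mul]

/-- The matrix `(1, b; 0, l)`. -/
noncomputable def utM (b : F) (l : Fˣ) : GL (Fin 2) F := mat 1 b 0 (l : F) (by simp)

theorem psi_utM (b : F) (l : Fˣ) : psi (utM b l) = ut b l := rfl

theorem utM_eq_one : lev (utM (0 : F) 1) = 1 :=
  lev_eq_one_of_psi (by rw [psi_utM, ut_zero_one])

/-- The Levi part of the standard Sylow subgroup. -/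
noncomputable def uLev : Multiplicative F →* Cfsg.PSp 2 F :=
  MonoidHom.mk' (fun b => lev (utM b.toAdd 1)) fun a b => by
    rw [← map_mul]
    exact lev_eq_of_psi (by rw [toAdd_mul, psi_utM, map_mul psi, psi_utM, psi_utM, ut_mul]; simp [add_comm])

variable (F) in
/-- The standard Sylow subgroup. -/
noncomputable def uSyl : Subgroup (Cfsg.PSp 2 F) := (spBorelU 2 F).map prS

theorem mem_uSyl {X : Cfsg.PSp 2 F} : X ∈ uSyl F ↔
    ∃ (b : F) (v : V F), X = uLev (Multiplicative.ofAdd b) * sieg (Multiplicative.ofAdd v) := by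
  constructor
  · rintro ⟨g, hg, rfl⟩
    obtain ⟨hC, hU⟩ := hg
    obtain ⟨A, B, hB, hA, hgAB⟩ := exists_spLevi_mul_spSiegel g hC
    obtain ⟨v, hv⟩ := exists_symMat hB
    rw [← hA] at hU
    refine ⟨A.1 0 1, v, ?_⟩
    rw [hgAB, map_mul]
    congr 1
    · refine lev_eq_of_psi (congrArg psi (Units.ext ?_))
      have e00 := hU 0 0 le_rfl
      have e10 := hU 1 0 (Fin.zero_le _)
      have e11 := hU 1 1 le_rfl
      simp only [if_pos, Fin.reduceEq, if_false] at e00 e10 e11
      ext i j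
      fin_cases i <;> fin_cases j <;>
        simp [utM, mat, Matrix.GeneralLinearGroup.mkOfDetNeZero, e00, e10, e11]
    · rw [sieg_ofAdd]
      congr 1
      rw [siegG]
      congr 1
      exact hv.symm
  · rintro ⟨b, v, rfl⟩
    refine ⟨spLevi (utM b 1) * siegG v, mul_mem (spLevi_mem_spBorelU ?_) (spSiegel_mem_spBorelU _),
      map_mul _ _ _⟩
    intro i j hij
    fin_cases i <;> fin_cases j <;>
      simp [utM, mat, Matrix.GeneralLinearGroup.mkOfDetNeZero] at hij ⊢

theorem sieg_mem_uSyl (v : V F) : sieg (Multiplicative.ofAdd v) ∈ uSyl F :=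
  mem_uSyl.2 ⟨0, v, by rw [ofAdd_zero, map_one, one_mul]⟩

theorem conj_uSyl (b : F) (v u : V F) :
    (uLev (Multiplicative.ofAdd b) * sieg (Multiplicative.ofAdd v)) * sieg (Multiplicative.ofAdd u) *
        (uLev (Multiplicative.ofAdd b) * sieg (Multiplicative.ofAdd v))⁻¹ =
      sieg (Multiplicative.ofAdd (ut b 1 u)) :=
  conj_of_form (utM b 1) v u

theorem form_inj (hF : FieldHyp F p n) {b b' : F} {v v' : V F}
    (h : uLev (Multiplicative.ofAdd b) * sieg (Multiplicative.ofAdd v) =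
      uLev (Multiplicative.ofAdd b') * sieg (Multiplicative.ofAdd v')) : b = b' ∧ v = v' := by
  have hb : b = b' := by
    refine (ut_inj (l := 1) (l' := 1) (Equiv.ext fun u => ?_)).1
    have h1 := conj_uSyl b v u
    rw [h, conj_uSyl] at h1
    exact (Multiplicative.ofAdd.injective (sieg_injective hF.two h1)).symm
  subst hb
  exact ⟨rfl, Multiplicative.ofAdd.injective (sieg_injective hF.two (mul_left_cancel h))⟩

theorem card_uSyl (hF : FieldHyp F p n) : Nat.card (uSyl F) = p ^ (4 * n) := by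
  let f : F × V F → uSyl F := fun x =>
    ⟨uLev (Multiplicative.ofAdd x.1) * sieg (Multiplicative.ofAdd x.2), mem_uSyl.2 ⟨_, _, rfl⟩⟩
  have hf : Function.Bijective f := by
    constructor
    · rintro ⟨b, v⟩ ⟨b', v'⟩ h
      obtain ⟨rfl, rfl⟩ := form_inj hF (congrArg Subtype.val h)
      rfl
    · rintro ⟨X, hX⟩
      obtain ⟨b, v, rfl⟩ := mem_uSyl.1 hX
      exact ⟨(b, v), rfl⟩
  rw [← Nat.card_congr (Equiv.ofBijective f hf), Nat.card_prod, Nat.card_prod, Nat.card_prod, hF.card]
  ring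

/-- The standard subgroup is a Sylow subgroup. -/
theorem exists_sylow (hF : FieldHyp F p n) :
    ∃ S : Sylow p (Cfsg.PSp 2 F), (S : Subgroup (Cfsg.PSp 2 F)) = uSyl F := by
  haveI := Fact.mk hF.prime
  haveI := hF.char
  have hp : IsPGroup p (uSyl F) := (isPGroup_spBorelU p).map _
  have hidx : ¬ p ∣ (uSyl F).index := by
    intro hd
    have h1 : p ^ (4 * n) * p ∣ Nat.card (Cfsg.PSp 2 F) := by
      rw [← Subgroup.card_mul_index (uSyl F), card_uSyl hF]
      exact Nat.mul_dvd_mul_left _ hd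
    have h2 : p ^ (4 * n) * p ∣ Nat.card (Matrix.symplecticGroup (Fin 2) F) := by
      rw [Subgroup.card_eq_card_quotient_mul_card_subgroup (Subgroup.center _)]
      exact h1.mul_right _
    rw [GLOrder.card_Sp, hF.card, ← pow_mul, show n * 2 ^ 2 = 4 * n by ring,
      Nat.mul_dvd_mul_iff_left (pow_pos hF.prime.pos _), Finset.prod_range_succ, Finset.prod_range_one,
      ← pow_mul, ← pow_mul] at h2
    have key : ∀ k, 1 ≤ k → ¬ p ∣ p ^ k - 1 := by
      intro k hk hdk
      have h3 : p ∣ p ^ k := dvd_pow_self p (by omega)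
      have h4 := Nat.dvd_sub h3 hdk
      rw [show p ^ k - (p ^ k - 1) = 1 by have := Nat.one_le_pow k p hF.prime.pos; omega] at h4
      exact hF.prime.ne_one (Nat.dvd_one.1 h4)
    rcases (Nat.Prime.dvd_mul hF.prime).1 h2 with h | h <;>
      refine key _ ?_ h <;> have := hF.pos <;> omega
  exact ⟨hp.toSylow hidx, rfl⟩

/-- The Siegel group is the only abelian subgroup of its order in the Sylow subgroup. -/
theorem eq_range_sieg (hF : FieldHyp F p n) {T : Subgroup (Cfsg.PSp 2 F)} (hT : T ≤ uSyl F)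
    (hc : ∀ a ∈ T, ∀ b ∈ T, a * b = b * a) (hcard : Nat.card T = p ^ (3 * n)) :
    T = (sieg (F := F)).range := by
  have hV : Nat.card (sieg (F := F)).range = p ^ (3 * n) := by
    rw [← Nat.card_congr (MonoidHom.ofInjective (sieg_injective hF.two)).toEquiv,
      Nat.card_congr Multiplicative.toAdd, Nat.card_prod, Nat.card_prod, hF.card]
    ring
  by_cases hle : T ≤ (sieg (F := F)).range
  · exact Subgroup.eq_of_le_of_card_ge hle (hV.trans hcard.symm).le
  exfalso
  obtain ⟨X, hXT, hX⟩ := SetLike.not_le_iff_exists.1 hle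
  obtain ⟨b, v, rfl⟩ := mem_uSyl.1 (hT hXT)
  have hb : b ≠ 0 := by
    intro h
    rw [h, ofAdd_zero, map_one, one_mul] at hX
    exact hX ⟨_, rfl⟩
  choose bf vf hbv using fun Y : T => mem_uSyl.1 (hT Y.2)
  have hz : ∀ (Y : T), bf Y = 0 → vf Y ∈ (axZ : Set (V F)) := by
    intro Y hY
    refine fix_ut hF.two hb ?_
    have h1 := conj_uSyl b v (vf Y)
    have h2 : (Y : Cfsg.PSp 2 F) = sieg (Multiplicative.ofAdd (vf Y)) := by
      rw [hbv Y, hY, ofAdd_zero, map_one, one_mul]
    rw [← h2, hc _ hXT _ Y.2, mul_inv_cancel_right, h2] at h1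
    exact (Multiplicative.ofAdd.injective (sieg_injective hF.two h1)).symm
  -- at most `q` elements over each Levi part
  classical
  haveI : Fintype T := Fintype.ofFinite _
  have hfib : ∀ β : F, (Finset.univ.filter fun Y : T => bf Y = β).card ≤ Fintype.card F := by
    intro β
    rcases (Finset.univ.filter fun Y : T => bf Y = β).eq_empty_or_nonempty with h | ⟨Y0, hY0⟩
    · simp [h]
    rw [Finset.mem_filter] at hY0
    refine Finset.card_le_card_of_injOn (fun Y => (vf Y).1 - (vf Y0).1) (fun _ _ => Finset.mem_univ _)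
      ?_
    intro Y hY Y' hY' e
    simp only [Finset.coe_filter, Finset.mem_univ, true_and, Set.mem_setOf_eq] at hY hY'
    have hdiff : ∀ Y : T, bf Y = β → ((vf Y) - vf Y0) ∈ (axZ : Set (V F)) := by
      intro Y hY
      have h2 : ((Y0⁻¹ * Y : T) : Cfsg.PSp 2 F) =
          uLev (Multiplicative.ofAdd (0 : F)) * sieg (Multiplicative.ofAdd (vf Y - vf Y0)) := by
        rw [Subgroup.coe_mul, InvMemClass.coe_inv, hbv Y, hbv Y0, hY, hY0.2, ofAdd_zero, map_one,
          one_mul, _root_.mul_inv_rev, mul_assoc, inv_mul_cancel_left, ← map_inv, ← map_mul, ← ofAdd_neg,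
          ← ofAdd_add, neg_add_eq_sub]
      obtain ⟨e1, e2⟩ := form_inj hF ((hbv _).symm.trans h2)
      rw [← e2]
      exact hz _ e1
    have a := hdiff Y hY
    have a' := hdiff Y' hY'
    simp only at e
    have hv : vf Y = vf Y' := by
      refine (sub_left_inj (a := vf Y0)).1 ?_
      exact Prod.ext (by simpa using e) (Prod.ext (a.1.trans a'.1.symm) (a.2.trans a'.2.symm))
    exact Subtype.ext (by rw [hbv Y, hbv Y', hY, hY', hv])
  have hle2 := Finset.card_le_mul_card_image_of_maps_to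
    (f := bf) (s := (Finset.univ : Finset T)) (t := Finset.univ) (fun _ _ => Finset.mem_univ _)
    (Fintype.card F) (fun β _ => hfib β)
  rw [Finset.card_univ, Finset.card_univ, ← Nat.card_eq_fintype_card, ← Nat.card_eq_fintype_card,
    hcard, hF.card, ← pow_add] at hle2
  have := Nat.pow_le_pow_iff_right hF.prime.one_lt |>.1 hle2
  have := hF.pos
  omega

/-- The centre of the Sylow subgroup is the root group. -/
theorem center_uSyl (hF : FieldHyp F p n) {X : Cfsg.PSp 2 F} (hX : X ∈ uSyl F)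
    (hc : ∀ Y ∈ uSyl F, Y * X = X * Y) :
    ∃ z : F, X = sieg (Multiplicative.ofAdd ((z, 0, 0) : V F)) := by
  obtain ⟨w, hw⟩ := cent_sieg hF (X := X) fun v => (hc _ (sieg_mem_uSyl v)).symm
  subst hw
  have h1 := conj_uSyl (1 : F) 0 w
  have hmem : uLev (Multiplicative.ofAdd (1 : F)) * sieg (Multiplicative.ofAdd (0 : V F)) ∈ uSyl F :=
    mem_uSyl.2 ⟨_, _, rfl⟩
  rw [hc _ hmem, mul_inv_cancel_right] at h1
  obtain ⟨hy, hz⟩ := fix_ut hF.two one_ne_zero
    (Multiplicative.ofAdd.injective (sieg_injective hF.two h1)).symm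
  exact ⟨w.1, by rw [show ((w.1, 0, 0) : V F) = w from Prod.ext rfl (Prod.ext hy.symm hz.symm)]⟩

theorem uSyl_comm_root (z : F) {Y : Cfsg.PSp 2 F} (hY : Y ∈ uSyl F) :
    Y * sieg (Multiplicative.ofAdd ((z, 0, 0) : V F)) = sieg (Multiplicative.ofAdd (z, 0, 0)) * Y := by
  obtain ⟨b, v, rfl⟩ := mem_uSyl.1 hY
  have h1 := conj_uSyl b v ((z, 0, 0) : V F)
  rw [ut_fix ⟨rfl, rfl⟩, mul_inv_eq_iff_eq_mul] at h1
  exact h1

theorem lev_comm_root (b : F) (l : Fˣ) (z : F) :
    lev (utM b l) * sieg (Multiplicative.ofAdd ((z, 0, 0) : V F)) =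
      sieg (Multiplicative.ofAdd (z, 0, 0)) * lev (utM b l) := by
  have h1 := lev_conj_sieg (utM b l) ((z, 0, 0) : V F)
  rw [psi_utM, ut_fix ⟨rfl, rfl⟩, mul_inv_eq_iff_eq_mul] at h1
  exact h1

/-- A Levi element fixing a point of the axis. -/
theorem psi_fix (A : GL (Fin 2) F) {z : F} (hz : z ≠ 0)
    (h : psi A ((z, 0, 0) : V F) = (z, 0, 0)) : ∃ b l, psi A = ut b l := by
  simp only [psi_apply, act, mul_zero, add_zero, Prod.mk.injEq] at h
  obtain ⟨ha, -, hc⟩ := h
  have hc0 : A.1 1 0 = 0 := by simpa [hz] using hc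
  have ha' : A.1 0 0 ^ 2 = 1 := mul_right_cancel₀ hz (ha.trans (one_mul z).symm)
  have hdet : A.1 0 0 * A.1 1 1 - A.1 0 1 * A.1 1 0 ≠ 0 := by
    rw [← Matrix.det_fin_two]; exact Matrix.GeneralLinearGroup.det_ne_zero A
  rw [hc0, mul_zero, sub_zero] at hdet
  refine ⟨A.1 0 0 * A.1 0 1, Units.mk0 (A.1 0 0 * A.1 1 1) hdet, Equiv.ext fun v => ?_⟩
  rw [psi_apply, ut_apply, Units.val_mk0]
  simp only [act, hc0, Prod.mk.injEq]
  refine ⟨?_, ?_, ?_⟩
  · linear_combination (v.1 - A.1 0 1 ^ 2 * v.2.2) * ha'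
  · linear_combination (-A.1 0 1 * A.1 1 1 * v.2.2) * ha'
  · linear_combination (-A.1 1 1 ^ 2 * v.2.2) * ha'

end Cfsg.Agent.SympLevi
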