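import Cfsg.Agent.Lib.SympLevi.Member
import Mathlib.Algebra.CharP.Lemmas
import Mathlib.GroupTheory.Perm.Basic
import Mathlib.SetTheory.Cardinal.Finite
import Mathlib.NumberTheory.LegendreSymbol.QuadraticChar.Basic

/-!
# Counting members (owner: helper67)

`B` stabilises the axis, `D` centralises the reflection, `H = B ⊓ D`, `Fs` are the members fixed pointwise by
the reflection.  With `k = |orb|`, `e = |Fs|`: `|A| = k q |H|`, `|D| = e |H|`, `q ∣ k - 1`, `e ∣ k`,
`(e - 1) q ≤ k - 1`, `k (q - 1) ≤ q³ - 1`, `e (q - 1) ≤ q² - 1`.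
-/

set_option autoImplicit false
set_option linter.unusedSectionVars false

namespace Cfsg.Agent.SympLevi

open Pointwise

variable {F : Type*} [Field F] [Fintype F]

/-- The numerical hypotheses on the field. -/
structure FieldHyp (F : Type*) [Field F] [Fintype F] (p n : ℕ) : Prop where
  prime : p.Prime
  pos : 1 ≤ n
  card : Nat.card F = p ^ n
  char : CharP F p
  four : Nat.card F % 4 = 3

variable {p n : ℕ}

theorem FieldHyp.odd_p (hF : FieldHyp F p n) : p ≠ 2 := by
  rintro rfl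
  have h1 := hF.card
  have h4 := hF.four
  have h2 : 2 ∣ Nat.card F := h1 ▸ dvd_pow_self 2 (by have := hF.pos; omega)
  omega

theorem FieldHyp.two (hF : FieldHyp F p n) : (2 : F) ≠ 0 := by
  haveI := hF.char
  intro h
  have h' : ((2 : ℕ) : F) = 0 := by exact_mod_cast h
  rw [CharP.cast_eq_zero_iff F p] at h'
  exact hF.odd_p ((Nat.prime_dvd_prime_iff_eq hF.prime Nat.prime_two).1 h')

theorem FieldHyp.not_isSquare_neg_one (hF : FieldHyp F p n) : ¬ IsSquare (-1 : F) := by
  rw [FiniteField.isSquare_neg_one_iff, ← Nat.card_eq_fintype_card]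
  exact fun h => h hF.four

theorem FieldHyp.neg_one_ne (hF : FieldHyp F p n) : (-1 : Fˣ) ≠ 1 := by
  intro h
  have h' := congrArg Units.val h
  simp only [Units.val_neg, Units.val_one] at h'
  exact hF.two (by linear_combination -h')

theorem FieldHyp.one_lt_card (hF : FieldHyp F p n) : 3 ≤ Nat.card F := by
  have := hF.four; omega

variable (A : Subgroup (Equiv.Perm (V F)))

/-- The stabiliser of the axis. -/
def Bsub : Subgroup (Equiv.Perm (V F)) := A ⊓ MulAction.stabilizer (Equiv.Perm (V F)) (axZ : Set (V F))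

/-- The centraliser of the reflection. -/
noncomputable def Dsub : Subgroup (Equiv.Perm (V F)) := A ⊓ Subgroup.centralizer {sref}

/-- Their intersection. -/
noncomputable def Hsub : Subgroup (Equiv.Perm (V F)) := Bsub A ⊓ Dsub A

/-- The members fixed pointwise by the reflection. -/
def Fs : Set (Set (V F)) := {S ∈ orb A | ∀ v ∈ S, sref v = v}

/-- The members in the translate of a reflection fixed one. -/
def near : Set (Set (V F)) := {T | ∃ b : F, ∃ S ∈ Fs A, S ≠ axZ ∧ ut b 1 • S = T}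

variable {A}

theorem mem_Bsub {a : Equiv.Perm (V F)} : a ∈ Bsub A ↔ a ∈ A ∧ a • (axZ : Set (V F)) = axZ := Iff.rfl

theorem mem_Dsub {a : Equiv.Perm (V F)} : a ∈ Dsub A ↔ a ∈ A ∧ a * sref = sref * a :=
  and_congr_right fun _ => Subgroup.mem_centralizer_singleton_iff

theorem mem_Hsub {a : Equiv.Perm (V F)} :
    a ∈ Hsub A ↔ a ∈ A ∧ a • (axZ : Set (V F)) = axZ ∧ a * sref = sref * a := by
  rw [Hsub, Subgroup.mem_inf, mem_Bsub, mem_Dsub]
  tauto

theorem sref_mem_Fs : (axZ : Set (V F)) ∈ Fs A := ⟨axZ_mem_orb, fun _ hv => ut_fix hv⟩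

/-- Orbit and stabiliser inside a subgroup. -/
theorem ncard_orbit_mul (K : Subgroup (Equiv.Perm (V F))) (S : Set (V F)) :
    (MulAction.orbit K S).ncard * Nat.card ↥(K ⊓ MulAction.stabilizer (Equiv.Perm (V F)) S) =
      Nat.card K := by
  rw [← Nat.card_coe_set_eq, show Nat.card ↥(K ⊓ MulAction.stabilizer (Equiv.Perm (V F)) S) =
    Nat.card (MulAction.stabilizer K S) from ?_, ← Nat.card_prod]
  · exact Nat.card_congr (MulAction.orbitProdStabilizerEquivGroup K S)
  · exact Nat.card_congr ⟨fun x => ⟨⟨x.1, x.2.1⟩, x.2.2⟩, fun x => ⟨x.1.1, x.1.2, x.2⟩,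
      fun _ => rfl, fun _ => rfl⟩

variable (hA : Levi A) (hF : FieldHyp F p n)
include hA hF

theorem ut_mem_Bsub (b : F) (l : Fˣ) : ut b l ∈ Bsub A := by
  refine mem_Bsub.2 ⟨hA.ut_mem b l, Set.eq_of_subset_of_ncard_le ?_ (by rw [Set.ncard_smul_set])
    (Set.toFinite _)⟩
  rintro _ ⟨v, hv, rfl⟩
  show ut b l v ∈ axZ
  rw [ut_fix hv]; exact hv

theorem sref_mul_ut (b : F) : sref * ut b 1 = ut (-b) 1 * sref := by
  rw [ut_mul, ut_mul]
  simp

theorem conj_sref (c : F) : ut c 1 * sref * (ut c 1)⁻¹ = ut (-(2 * c)) (-1) := by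
  rw [ut_inv, ut_mul, ut_mul]
  simp only [one_mul, mul_one, Units.val_one, Units.val_neg]
  congr 1
  ring

theorem sref_ne_one : (sref : Equiv.Perm (V F)) ≠ 1 := by
  intro h
  rw [← ut_zero_one] at h
  exact hF.neg_one_ne (ut_inj h).2

/-- Involutions fixing the axis. -/
theorem invol_form {a : Equiv.Perm (V F)} (ha : a ∈ A) {v : V F} (hv : v ∈ axZ) (hv0 : v ≠ 0)
    (hav : a v = v) (h2 : a * a = 1) (hne : a ≠ 1) : ∃ c, a = ut c 1 * sref * (ut c 1)⁻¹ := by
  obtain ⟨b, l, rfl⟩ := fix_axZ hA ha hv hv0 hav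
  rw [ut_mul, ← ut_zero_one] at h2
  obtain ⟨hb, hl⟩ := ut_inj h2
  rcases mul_self_eq_one_iff.1 (show (l : F) * l = 1 by rw [← Units.val_mul, hl, Units.val_one]) with e | e
  · exfalso
    rw [e, mul_one] at hb
    have hb0 : b = 0 := by
      have : (2 : F) * b = 0 := by linear_combination hb
      simpa [hF.two] using this
    exact hne (by rw [hb0, show l = 1 from Units.ext e, ut_zero_one])
  · refine ⟨-b / 2, ?_⟩
    rw [conj_sref hA hF, show l = -1 from Units.ext (by simpa using e)]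
    congr 1
    field_simp [hF.two]

theorem Fs_eq_orbit : Fs A = MulAction.orbit (Dsub A) (axZ : Set (V F)) := by
  ext S
  constructor
  · rintro ⟨⟨a, ha, rfl⟩, hfix⟩
    have h1 : ((1, 0, 0) : V F) ∈ (axZ : Set (V F)) := ⟨rfl, rfl⟩
    obtain ⟨c, hc⟩ := invol_form hA hF (a := a⁻¹ * sref * a)
      (mul_mem (mul_mem (inv_mem ha) (sref_mem hA)) ha) h1 (by simp)
      (by show a⁻¹ (sref (a (1, 0, 0))) = _
          rw [hfix _ (smul_mem a h1)]; exact a.symm_apply_apply _)
      (by rw [show a⁻¹ * sref * a * (a⁻¹ * sref * a) = a⁻¹ * (sref * sref) * a by group, sref_mul_self]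
          group)
      (fun h => sref_ne_one hA hF (by
        have : sref = a * (a⁻¹ * sref * a) * a⁻¹ := by group
        rw [this, h]; group))
    refine ⟨⟨a * ut c 1, mem_Dsub.2 ⟨mul_mem ha (hA.ut_mem _ _), ?_⟩⟩, ?_⟩
    · calc a * ut c 1 * sref = a * (ut c 1 * sref * (ut c 1)⁻¹) * ut c 1 := by group
        _ = sref * (a * ut c 1) := by rw [← hc]; group
    · show (a * ut c 1) • (axZ : Set (V F)) = _
      rw [mul_smul, (mem_Bsub.1 (ut_mem_Bsub hA hF c 1)).2]
  · rintro ⟨⟨d, hd⟩, rfl⟩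
    obtain ⟨hdA, hdc⟩ := mem_Dsub.1 hd
    refine ⟨⟨d, hdA, rfl⟩, ?_⟩
    rintro _ ⟨v, hv, rfl⟩
    show sref (d v) = d v
    rw [← Equiv.Perm.mul_apply, ← hdc, Equiv.Perm.mul_apply, ut_fix hv]

theorem decomp {a : Equiv.Perm (V F)} (ha : a ∈ Bsub A) : ∃ c, (ut c 1)⁻¹ * a ∈ Hsub A := by
  obtain ⟨haA, haZ⟩ := mem_Bsub.1 ha
  have h1 : ((1, 0, 0) : V F) ∈ (axZ : Set (V F)) := ⟨rfl, rfl⟩
  have hm : a⁻¹ ((1, 0, 0) : V F) ∈ (axZ : Set (V F)) := by
    rw [← mem_smul_iff, haZ]; exact h1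
  obtain ⟨c, hc⟩ := invol_form hA hF (a := a * sref * a⁻¹)
    (mul_mem (mul_mem haA (sref_mem hA)) (inv_mem haA)) h1 (by simp)
    (by show a (sref (a⁻¹ (1, 0, 0))) = _
        rw [ut_fix hm]; exact a.apply_symm_apply _)
    (by rw [show a * sref * a⁻¹ * (a * sref * a⁻¹) = a * (sref * sref) * a⁻¹ by group, sref_mul_self]
        group)
    (fun h => sref_ne_one hA hF (by
      have : sref = a⁻¹ * (a * sref * a⁻¹) * a := by group
      rw [this, h]; group))
  refine ⟨c, mem_Hsub.2 ⟨mul_mem (inv_mem (hA.ut_mem _ _)) haA, ?_, ?_⟩⟩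
  · rw [mul_smul, haZ, inv_smul_eq_iff, (mem_Bsub.1 (ut_mem_Bsub hA hF c 1)).2]
  · calc (ut c 1)⁻¹ * a * sref = (ut c 1)⁻¹ * (a * sref * a⁻¹) * a := by group
      _ = sref * ((ut c 1)⁻¹ * a) := by rw [hc]; group

theorem card_Bsub : Nat.card (Bsub A) = Nat.card F * Nat.card (Hsub A) := by
  let f : F × Hsub A → Bsub A := fun x =>
    ⟨ut x.1 1 * x.2.1, mul_mem (ut_mem_Bsub hA hF _ _) (Subgroup.mem_inf.1 x.2.2).1⟩
  rw [← Nat.card_prod]
  refine (Nat.card_congr (Equiv.ofBijective f ⟨?_, ?_⟩)).symm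
  · rintro ⟨b, h, hh⟩ ⟨b', h', hh'⟩ e
    have e' : ut b 1 * h = ut b' 1 * h' := congrArg Subtype.val e
    have hm : (ut b' 1)⁻¹ * ut b 1 ∈ Hsub A := by
      rw [show (ut b' 1)⁻¹ * ut b 1 = h' * h⁻¹ by
        rw [eq_mul_inv_iff_mul_eq, mul_assoc, e', inv_mul_cancel_left]]
      exact mul_mem hh' (inv_mem hh)
    rw [ut_inv, ut_mul] at hm
    have hc := (mem_Hsub.1 hm).2.2
    rw [ut_mul, ut_mul] at hc
    have hb := (ut_inj hc).1
    simp only [Units.val_one, Units.val_neg, mul_one, mul_neg, zero_add, zero_mul, add_zero] at hb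
    have hbb : b = b' := by
      have : (2 : F) * (b - b') = 0 := by linear_combination -hb
      simpa [hF.two, sub_eq_zero] using this
    subst hbb
    exact Prod.ext rfl (Subtype.ext (mul_left_cancel e'))
  · rintro ⟨a, ha⟩
    obtain ⟨c, hc⟩ := decomp hA hF ha
    exact ⟨(c, ⟨_, hc⟩), Subtype.ext (mul_inv_cancel_left _ _)⟩

theorem orb_eq_orbit : orb A = MulAction.orbit A (axZ : Set (V F)) := by
  ext S
  exact ⟨fun ⟨a, ha, h⟩ => ⟨⟨a, ha⟩, h⟩, fun ⟨⟨a, ha⟩, h⟩ => ⟨a, ha, h⟩⟩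

theorem card_A : Nat.card A = (orb A).ncard * (Nat.card F * Nat.card (Hsub A)) := by
  rw [← card_Bsub hA hF, orb_eq_orbit hA hF]
  exact (ncard_orbit_mul A _).symm

theorem card_D : Nat.card (Dsub A) = (Fs A).ncard * Nat.card (Hsub A) := by
  rw [Fs_eq_orbit hA hF, ← ncard_orbit_mul (Dsub A) (axZ : Set (V F))]
  congr 1
  refine Nat.card_congr (Equiv.subtypeEquivRight fun a => ?_)
  rw [mem_Hsub, Subgroup.mem_inf, mem_Dsub, MulAction.mem_stabilizer_iff]
  tauto

theorem ut_pow_p (b : F) : ut b 1 ^ p = 1 := by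
  haveI := hF.char
  rw [ut_pow, CharP.cast_eq_zero F p, zero_mul, ut_zero_one]

/-- An element of order `p` fixing a point of the axis. -/
theorem p_form {u : Equiv.Perm (V F)} (hu : u ∈ A) (hup : u ^ p = 1) {v : V F} (hv : v ∈ axZ) (hv0 : v ≠ 0)
    (huv : u v = v) : ∃ b, u = ut b 1 := by
  obtain ⟨b, l, rfl⟩ := fix_axZ hA hu hv hv0 huv
  refine ⟨b, ?_⟩
  haveI := hF.char
  haveI := Fact.mk hF.prime
  have hpow : ∀ i : ℕ, ∃ c, ut b l ^ i = ut c (l ^ i) := by
    intro i
    induction i with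
    | zero => exact ⟨0, by rw [pow_zero, pow_zero, ut_zero_one]⟩
    | succ i ih => obtain ⟨c, hc⟩ := ih; exact ⟨_, by rw [pow_succ, hc, ut_mul, pow_succ]⟩
  obtain ⟨c, hc⟩ := hpow p
  rw [hc, ← ut_zero_one] at hup
  have hl : ((l : F) - 1) ^ p = 0 := by
    rw [sub_pow_char, one_pow, sub_eq_zero]
    rw [← Units.val_pow_eq_pow_val, (ut_inj hup).2, Units.val_one]
  rw [show l = 1 from Units.ext (sub_eq_zero.1 (pow_eq_zero_iff hF.prime.ne_zero |>.1 hl))]

/-- The translations act freely away from the axis. -/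
theorem free_ut {b : F} {S : Set (V F)} (hS : S ∈ orb A) (hne : S ≠ axZ) (h : ut b 1 • S = S) : b = 0 := by
  by_contra hb
  haveI := Fact.mk hF.prime
  obtain ⟨v, hvS, hv0, hv⟩ := exists_fixed_in_member hA p n hF.pos hF.card (hA.ut_mem b 1)
    (ut_pow_p hA hF b) hS h
  exact hne (member_disjoint hA hF.two hS axZ_mem_orb hvS (fix_ut hF.two hb hv) hv0)

/-- `q ∣ k - 1`. -/
theorem card_dvd_orb_sub_one : Nat.card F ∣ (orb A).ncard - 1 := by
  let f : Multiplicative F →* Equiv.Perm (V F) :=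
    { toFun := fun b => ut b.toAdd 1
      map_one' := ut_zero_one
      map_mul' := fun a b => by rw [ut_mul]; simp [add_comm] }
  have hf : Function.Injective f := fun a b h => Multiplicative.toAdd.injective (ut_inj h).1
  have hc : Nat.card f.range = Nat.card F := by
    rw [← Nat.card_congr (MonoidHom.ofInjective hf).toEquiv, Nat.card_congr Multiplicative.toAdd]
  rw [← hc, ← Set.ncard_sdiff_singleton_of_mem (axZ_mem_orb (A := A))]
  refine dvd_ncard_of_free _ (Set.toFinite _) ?_ ?_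
  · rintro ⟨_, b, rfl⟩ S ⟨hS, hne⟩
    refine ⟨orb_smul (hA.ut_mem _ _) hS, fun h => hne ?_⟩
    have h' : ut b.toAdd 1 • S = ut b.toAdd 1 • (axZ : Set (V F)) :=
      (Set.mem_singleton_iff.1 h).trans (mem_Bsub.1 (ut_mem_Bsub hA hF _ _)).2.symm
    exact MulAction.injective _ h'
  · rintro ⟨_, b, rfl⟩ S ⟨hS, hne⟩ h
    exact Subtype.ext (by
      show ut b.toAdd 1 = 1
      rw [free_ut hA hF hS hne h, ut_zero_one])

theorem orb_pos : 1 ≤ (orb A).ncard :=
  Nat.one_le_iff_ne_zero.2 (Set.ncard_ne_zero_of_mem axZ_mem_orb (Set.toFinite _))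

/-- An element of order dividing `p` commuting with the reflection is trivial. -/
theorem eq_one_of_comm {u : Equiv.Perm (V F)} (hu : u ∈ A) (hup : u ^ p = 1) (hc : u * sref = sref * u) :
    u = 1 := by
  classical
  haveI := Fact.mk hF.prime
  haveI : Fintype (orb A) := Fintype.ofFinite _
  have hmaps : ∀ T, (MulAction.toPerm u : Equiv.Perm (Set (V F))) T ∈ orb A ↔ T ∈ orb A := fun T =>
    ⟨fun h => by
      have h' := orb_smul (inv_mem hu) h
      rwa [MulAction.toPerm_apply, inv_smul_smul] at h', fun h => orb_smul hu h⟩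
  let σ : Equiv.Perm (orb A) := (MulAction.toPerm u).subtypePerm hmaps
  have hσ : σ ^ p ^ 1 = 1 := by
    rw [pow_one, Equiv.Perm.subtypePerm_pow]
    refine Equiv.ext fun T => Subtype.ext ?_
    show ((MulAction.toPermHom (Equiv.Perm (V F)) (Set (V F))) u ^ p) T.1 = T.1
    rw [← map_pow, hup, map_one]; rfl
  obtain ⟨⟨S, hS⟩, hfix⟩ := Equiv.Perm.exists_fixed_point_of_prime (p := p) (n := 1) (α := orb A)
    (by
      rw [← Nat.card_eq_fintype_card, Nat.card_coe_set_eq]
      intro hd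
      have h1 : p ∣ (orb A).ncard - 1 :=
        (hF.card ▸ dvd_pow_self p (by have := hF.pos; omega)).trans (card_dvd_orb_sub_one hA hF)
      have h2 := orb_pos hA hF
      have h3 := Nat.dvd_sub hd h1
      rw [show (orb A).ncard - ((orb A).ncard - 1) = 1 by omega] at h3
      exact hF.prime.ne_one (Nat.dvd_one.1 h3)) hσ
  have huS : u • S = S := congrArg Subtype.val hfix
  obtain ⟨v, hvS, hv0, huv⟩ := exists_fixed_in_member hA p n hF.pos hF.card hu hup hS huS
  obtain ⟨a, ha, rfl⟩ := hS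
  obtain ⟨v', hv', rfl⟩ := hvS
  replace huv : u (a v') = a v' := huv
  have hv'0 : v' ≠ 0 := fun h => hv0 (by subst h; exact map_zero' hA ha)
  obtain ⟨b, hb⟩ := p_form hA hF (u := a⁻¹ * u * a) (mul_mem (mul_mem (inv_mem ha) hu) ha)
    (by rw [show (a⁻¹ * u * a) ^ p = a⁻¹ * u ^ p * a by
          simpa using conj_pow (i := p) (a := a⁻¹) (b := u)]
        rw [hup]; group) hv' hv'0 (by show a⁻¹ (u (a v')) = v'; rw [huv]; exact a.symm_apply_apply _)
  by_cases hb0 : b = 0
  · rw [hb0, ut_zero_one] at hb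
    calc u = a * (a⁻¹ * u * a) * a⁻¹ := by group
      _ = 1 := by rw [hb]; group
  exfalso
  set t := a⁻¹ * sref * a with ht
  have htA : t ∈ A := mul_mem (mul_mem (inv_mem ha) (sref_mem hA)) ha
  have htc : ut b 1 * t = t * ut b 1 := by
    rw [← hb, ht]
    calc a⁻¹ * u * a * (a⁻¹ * sref * a) = a⁻¹ * (u * sref) * a := by group
      _ = a⁻¹ * sref * a * (a⁻¹ * u * a) := by rw [hc]; group
  have htt : t * t = 1 := by
    rw [ht, show a⁻¹ * sref * a * (a⁻¹ * sref * a) = a⁻¹ * (sref * sref) * a by group, sref_mul_self]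
    group
  have htne : t ≠ 1 := fun h => sref_ne_one hA hF (by
    have : sref = a * t * a⁻¹ := by rw [ht]; group
    rw [this, h]; group)
  have htZ : ∀ w ∈ (axZ : Set (V F)), t w ∈ (axZ : Set (V F)) := fun w hw =>
    fix_ut hF.two hb0 (by
      rw [← Equiv.Perm.mul_apply, htc, Equiv.Perm.mul_apply, ut_fix hw])
  have hneg : ∀ w ∈ (axZ : Set (V F)), t w = -w := by
    intro w hw
    by_contra hne
    have hm : t w + w ∈ (axZ : Set (V F)) := add_mem_member hA axZ_mem_orb (htZ w hw) hw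
    have hm0 : t w + w ≠ 0 := fun h => hne (eq_neg_of_add_eq_zero_left h)
    have htfix : t (t w + w) = t w + w := by
      rw [hA.add t htA, ← Equiv.Perm.mul_apply, htt, Equiv.Perm.one_apply, add_comm]
    obtain ⟨c, hc'⟩ := invol_form hA hF htA hm hm0 htfix htt htne
    rw [hc', conj_sref hA hF, ut_mul, ut_mul] at htc
    have := (ut_inj htc).1
    simp only [Units.val_neg, Units.val_one, mul_neg, mul_one] at this
    have : (2 : F) * b = 0 := by linear_combination -this
    exact hb0 (by simpa [hF.two] using this)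
  refine axY_not_mem hA ⟨a, ha, member_eq ⟨a, ha, rfl⟩ ncard_axY ?_⟩
  rintro _ ⟨w, hw, rfl⟩
  show a w ∈ axY
  have h := congrArg a (hneg w hw)
  rw [map_neg' hA ha] at h
  replace h : sref (a w) = -(a w) := by
    rw [← h]
    exact (a.apply_symm_apply _).symm
  rw [sref_apply, Prod.ext_iff, Prod.ext_iff] at h
  obtain ⟨h1, -, h3⟩ := h
  simp only [Prod.fst_neg, Prod.snd_neg] at h1 h3
  constructor
  · have : (2 : F) * (a w).1 = 0 := by linear_combination h1
    simpa [hF.two] using this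
  · have : (2 : F) * (a w).2.2 = 0 := by linear_combination h3
    simpa [hF.two] using this

/-- `e ∣ k`. -/
theorem ncard_Fs_dvd : (Fs A).ncard ∣ (orb A).ncard ∧ ¬ p ∣ (Fs A).ncard := by
  haveI := Fact.mk hF.prime
  have hpD : ¬ p ∣ Nat.card (Dsub A) := by
    intro h
    obtain ⟨⟨u, hu⟩, hord⟩ := exists_prime_orderOf_dvd_card' p h
    obtain ⟨huA, huc⟩ := mem_Dsub.1 hu
    rw [Subgroup.orderOf_mk] at hord
    have h1 := eq_one_of_comm hA hF huA (hord ▸ pow_orderOf_eq_one u) huc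
    rw [h1, orderOf_one] at hord
    exact hF.prime.ne_one hord.symm
  have hnp : ¬ p ∣ (Fs A).ncard := fun h => hpD (card_D hA hF ▸ h.mul_right _)
  refine ⟨?_, hnp⟩
  have hd : Nat.card (Dsub A) ∣ Nat.card A := Subgroup.card_dvd_of_le inf_le_left
  rw [card_D hA hF, card_A hA hF, ← mul_assoc] at hd
  have h := Nat.dvd_of_mul_dvd_mul_right Nat.card_pos hd
  refine ((Nat.Coprime.pow_right n ((Nat.Prime.coprime_iff_not_dvd hF.prime).2 hnp).symm).dvd_mul_right).1 ?_
  rwa [← hF.card]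

/-- `e (q - 1) ≤ q² - 1`. -/
theorem Fs_bound : (Fs A).ncard * (Nat.card F - 1) + 1 ≤ Nat.card F ^ 2 := by
  classical
  let s : Finset (Set (V F)) := (Set.toFinite (Fs A)).toFinset
  let t : Set (V F) → Finset (V F) := fun S => ((Set.toFinite S).toFinset).erase 0
  have hd : (s : Set (Set (V F))).PairwiseDisjoint t := by
    intro S hS T hT hne
    refine Finset.disjoint_left.2 fun v hvS hvT => hne ?_
    simp only [t, Finset.mem_erase, Set.Finite.mem_toFinset] at hvS hvT
    simp only [s, Set.Finite.coe_toFinset] at hS hT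
    exact member_disjoint hA hF.two hS.1 hT.1 hvS.2 hvT.2 hvS.1
  have hc : ∀ S ∈ s, (t S).card = Nat.card F - 1 := by
    intro S hS
    simp only [s, Set.Finite.mem_toFinset] at hS
    rw [Finset.card_erase_of_mem (by simpa using zero_mem_member hA hS.1),
      ← Set.ncard_eq_toFinset_card S, ncard_member hS.1]
  let U : Finset (V F) := (Finset.univ.image fun x : F × F => ((x.1, 0, x.2) : V F)).erase 0
  have hsub : s.biUnion t ⊆ U := by
    intro v hv
    simp only [Finset.mem_biUnion, t, s, Finset.mem_erase, Set.Finite.mem_toFinset] at hv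
    obtain ⟨S, hS, hv0, hvS⟩ := hv
    refine Finset.mem_erase.2 ⟨hv0, Finset.mem_image.2 ⟨(v.1, v.2.2), Finset.mem_univ _, ?_⟩⟩
    have h := hS.2 v hvS
    rw [sref_apply, Prod.ext_iff, Prod.ext_iff] at h
    have h2 : (2 : F) * v.2.1 = 0 := by linear_combination -h.2.1
    have h3 : v.2.1 = 0 := by simpa [hF.two] using h2
    exact Prod.ext rfl (Prod.ext h3.symm rfl)
  have h := Finset.card_le_card hsub
  rw [Finset.card_biUnion hd, Finset.sum_congr rfl hc, Finset.sum_const, smul_eq_mul] at h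
  rw [show (Fs A).ncard = s.card from Set.ncard_eq_toFinset_card _]
  have hU : U.card + 1 ≤ Nat.card F ^ 2 := by
    have hm : (0 : V F) ∈ Finset.univ.image fun x : F × F => ((x.1, 0, x.2) : V F) :=
      Finset.mem_image.2 ⟨(0, 0), Finset.mem_univ _, rfl⟩
    rw [show U.card = _ from Finset.card_erase_of_mem hm]
    have h1 := Finset.card_image_le (s := Finset.univ)
      (f := fun x : F × F => ((x.1, 0, x.2) : V F))
    rw [Finset.card_univ, Fintype.card_prod, ← Nat.card_eq_fintype_card, ← sq] at h1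
    have h2 : 0 < (Finset.univ.image fun x : F × F => ((x.1, 0, x.2) : V F)).card :=
      Finset.card_pos.2 (Finset.univ_nonempty.image _)
    omega
  omega

/-- `k (q - 1) ≤ q³ - 1`. -/
theorem orb_bound : (orb A).ncard * (Nat.card F - 1) + 1 ≤ Nat.card F ^ 3 := by
  classical
  let s : Finset (Set (V F)) := (Set.toFinite (orb A)).toFinset
  let t : Set (V F) → Finset (V F) := fun S => ((Set.toFinite S).toFinset).erase 0
  have hd : (s : Set (Set (V F))).PairwiseDisjoint t := by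
    intro S hS T hT hne
    refine Finset.disjoint_left.2 fun v hvS hvT => hne ?_
    simp only [t, Finset.mem_erase, Set.Finite.mem_toFinset] at hvS hvT
    simp only [s, Set.Finite.coe_toFinset] at hS hT
    exact member_disjoint hA hF.two hS hT hvS.2 hvT.2 hvS.1
  have hc : ∀ S ∈ s, (t S).card = Nat.card F - 1 := by
    intro S hS
    simp only [s, Set.Finite.mem_toFinset] at hS
    rw [Finset.card_erase_of_mem (by simpa using zero_mem_member hA hS),
      ← Set.ncard_eq_toFinset_card S, ncard_member hS]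
  have hsub : s.biUnion t ⊆ (Finset.univ : Finset (V F)).erase 0 := by
    intro v hv
    simp only [Finset.mem_biUnion, t, Finset.mem_erase] at hv
    obtain ⟨S, -, hv0, -⟩ := hv
    exact Finset.mem_erase.2 ⟨hv0, Finset.mem_univ _⟩
  have h := Finset.card_le_card hsub
  rw [Finset.card_biUnion hd, Finset.sum_congr rfl hc, Finset.sum_const, smul_eq_mul,
    Finset.card_erase_of_mem (Finset.mem_univ _), Finset.card_univ, Fintype.card_prod,
    Fintype.card_prod, ← Nat.card_eq_fintype_card] at h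
  rw [show (orb A).ncard = s.card from Set.ncard_eq_toFinset_card _]
  have hpos : 0 < Nat.card F * (Nat.card F * Nat.card F) := by
    have := hF.one_lt_card; positivity
  rw [pow_succ', sq]
  omega

theorem near_subset : near A ⊆ orb A \ {axZ} := by
  rintro _ ⟨b, S, hS, hne, rfl⟩
  refine ⟨orb_smul (hA.ut_mem _ _) hS.1, fun h => hne (MulAction.injective (ut b 1) ?_)⟩
  exact (Set.mem_singleton_iff.1 h).trans (mem_Bsub.1 (ut_mem_Bsub hA hF _ _)).2.symm

theorem ncard_near : (near A).ncard = Nat.card F * ((Fs A).ncard - 1) := by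
  have h : near A = (fun x : F × Set (V F) => ut x.1 1 • x.2) '' (Set.univ ×ˢ (Fs A \ {axZ})) := by
    ext T
    constructor
    · rintro ⟨b, S, hS, hne, rfl⟩; exact ⟨(b, S), ⟨trivial, hS, hne⟩, rfl⟩
    · rintro ⟨⟨b, S⟩, ⟨-, hS, hne⟩, rfl⟩; exact ⟨b, S, hS, hne, rfl⟩
  rw [h, Set.InjOn.ncard_image, Set.ncard_prod, Set.ncard_univ,
    Set.ncard_sdiff_singleton_of_mem sref_mem_Fs]
  rintro ⟨b, S⟩ ⟨-, hS, hne⟩ ⟨b', S'⟩ ⟨-, hS', hne'⟩ e
  simp only at e
  change S ∈ Fs A at hS
  change S' ∈ Fs A at hS'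
  change S ≠ axZ at hne
  change S' ≠ axZ at hne'
  have hs : ∀ {T : Set (V F)}, T ∈ Fs A → (sref (F := F)) • T = T := by
    intro T hT
    ext v
    rw [mem_smul_iff, show (sref (F := F))⁻¹ = sref from
      inv_eq_of_mul_eq_one_left sref_mul_self]
    constructor
    · intro hv
      have h := hT.2 _ hv
      rw [← Equiv.Perm.mul_apply, sref_mul_self, Equiv.Perm.one_apply] at h
      rwa [← h] at hv
    · intro hv; rw [hT.2 v hv]; exact hv
  have e1 : S = ut (b' - b) 1 • S' := by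
    have h1 := congrArg (fun T => ut (-b) 1 • T) e
    simp only [← mul_smul, ut_mul, Units.val_one, mul_one, add_neg_cancel, ut_zero_one, one_smul] at h1
    rw [h1, sub_eq_add_neg]
  have e2 : ut (b' - b) 1 • S' = ut (-(b' - b)) 1 • S' := by
    conv_lhs => rw [← e1, ← hs hS, e1, ← mul_smul, sref_mul_ut hA hF, mul_smul, hs hS']
  have e3 : ut ((b' - b) + (b' - b)) 1 • S' = S' := by
    have h1 := congrArg (fun T => ut (b' - b) 1 • T) e2
    simpa only [← mul_smul, ut_mul, Units.val_one, mul_one, neg_add_cancel, ut_zero_one, one_smul]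
      using h1
  have e4 := free_ut hA hF hS'.1 hne' e3
  have hbb : b' - b = 0 := by
    have : (2 : F) * (b' - b) = 0 := by linear_combination e4
    simpa [hF.two] using this
  rw [hbb, ut_zero_one, one_smul] at e1
  rw [sub_eq_zero.1 hbb, e1]

/-- `(e - 1) q ≤ k - 1`. -/
theorem near_bound : Nat.card F * ((Fs A).ncard - 1) ≤ (orb A).ncard - 1 := by
  rw [← ncard_near hA hF, ← Set.ncard_sdiff_singleton_of_mem (axZ_mem_orb (A := A))]
  exact Set.ncard_le_ncard (near_subset hA hF) (Set.toFinite _)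

end Cfsg.Agent.SympLevi
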