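import Mathlib.GroupTheory.OrderOfElement
import Mathlib.GroupTheory.Solvable
import Mathlib.GroupTheory.Commutator.Basic
import Mathlib.Algebra.Group.End
import Mathlib.GroupTheory.Perm.Cycle.Type

/-!
# Inverted coprime operators (owner: helper67)

`fixed_of_inverted`: a soluble group of odd order with commuting-rule automorphisms `s u = u⁻¹ s`,
`u` of prime order not dividing the order, where every fixed point of `s` is fixed by `u`, is fixed by `u`.
-/

set_option autoImplicit false

namespace Cfsg.Agent.SympLevi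

open scoped commutatorElement

variable {Q : Type*} [Group Q]

/-- An involution fixes a point of every finite set of odd order it maps to itself. -/
theorem exists_fixed_of_odd {α : Type*} [Finite α] (hodd : Odd (Nat.card α)) (f : α → α)
    (hf : ∀ x, f (f x) = x) : ∃ x, f x = x := by
  classical
  have := Fintype.ofFinite α
  let σ : Equiv.Perm α := ⟨f, f, hf, hf⟩
  have hσ : σ ^ 2 ^ 1 = 1 := Equiv.ext fun x => by
    show (σ ^ (2 ^ 1)) x = x
    rw [pow_one, pow_two]
    exact hf x
  exact Equiv.Perm.exists_fixed_point_of_prime (p := 2) (n := 1)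
    (by rw [← Nat.card_eq_fintype_card, ← even_iff_two_dvd]; exact Nat.not_even_iff_odd.2 hodd) hσ

/-- One step: a section with abelian quotient. -/
theorem fixed_step [Finite Q] {p : ℕ} [hp : Fact p.Prime] (hp2 : p ≠ 2) (hcop : ¬ p ∣ Nat.card Q)
    (hodd : Odd (Nat.card Q)) (u s : MulAut Q) (hu : u ^ p = 1) (hs : ∀ x, s (s x) = x)
    (hus : ∀ x, u (s x) = s (u⁻¹ x)) (hfix : ∀ x, s x = x → u x = x) (H N : Subgroup Q)
    (hsH : ∀ x ∈ H, s x ∈ H) (hsN : ∀ x ∈ N, s x ∈ N) (hHN : ⁅H, H⁆ ≤ N)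
    (hN : ∀ x ∈ N, u x = x) (huH : ∀ x ∈ H, u x ∈ H) : ∀ x ∈ H, u x = x := by
  -- `u` fixes every `x * s x`
  have hy : ∀ x ∈ H, u (x * s x) = x * s x := by
    intro x hx
    have hc : (x * s x)⁻¹ * s (x * s x) ∈ N := by
      refine hHN ?_
      rw [map_mul, hs, show (x * s x)⁻¹ * (s x * x) = ⁅(s x)⁻¹, x⁻¹⁆ by
        rw [commutatorElement_def]; group]
      exact Subgroup.commutator_mem_commutator (inv_mem (hsH x hx)) (inv_mem hx)
    have hmem : ∀ c : N, (x * s x)⁻¹ * s (x * s x * c.1) ∈ N := fun c => by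
      rw [map_mul, ← mul_assoc]
      exact mul_mem hc (hsN _ c.2)
    obtain ⟨c, hcfix⟩ := exists_fixed_of_odd (α := N)
      (hodd.of_dvd_nat (Subgroup.card_subgroup_dvd_card N))
      (fun c => ⟨(x * s x)⁻¹ * s (x * s x * c.1), hmem c⟩) (fun c => by
        apply Subtype.ext
        show (x * s x)⁻¹ * s (x * s x * ((x * s x)⁻¹ * s (x * s x * c.1))) = c.1
        rw [mul_inv_cancel_left, hs, inv_mul_cancel_left])
    have hcf : s (x * s x * c.1) = x * s x * c.1 := by
      have h := congrArg Subtype.val hcfix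
      exact inv_mul_eq_iff_eq_mul.1 h
    have h := hfix _ hcf
    rw [map_mul, hN _ c.2] at h
    exact mul_right_cancel h
  intro x hx
  have key : ∀ y ∈ H, y⁻¹ * u y = s (y * (u⁻¹ y)⁻¹) := by
    intro y hy'
    have h := hy y hy'
    rw [map_mul, hus] at h
    have h' : y⁻¹ * u y = s y * (s (u⁻¹ y))⁻¹ := by
      rw [eq_mul_inv_iff_mul_eq, mul_assoc, h, inv_mul_cancel_left]
    rw [h', map_mul, map_inv]
  set c := x⁻¹ * u x with hc
  have hu' : u⁻¹ = u ^ (p - 1) := by
    refine inv_eq_of_mul_eq_one_right ?_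
    rw [← pow_succ', Nat.sub_add_cancel hp.out.one_le, hu]
  have huiH : u⁻¹ x ∈ H := by
    rw [hu']
    generalize p - 1 = i
    induction i with
    | zero => simpa using hx
    | succ i ih => rw [pow_succ']; exact huH _ ih
  -- `u c = u⁻¹ c`
  have h2 : u c = u⁻¹ c := by
    calc u c = u (s (x * (u⁻¹ x)⁻¹)) := by rw [← key x hx]
      _ = s (u⁻¹ x * (u⁻¹ (u⁻¹ x))⁻¹) := by rw [hus, map_mul, map_inv]
      _ = (u⁻¹ x)⁻¹ * u (u⁻¹ x) := (key _ huiH).symm
      _ = u⁻¹ c := by rw [hc, map_mul, map_inv, MulAut.apply_inv_self, MulAut.inv_apply_self]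
  have h3 : (u ^ 2) c = c := by
    rw [pow_two, MulAut.mul_apply, h2, MulAut.apply_inv_self]
  have h4 : u c = c := by
    have hodd2 : Odd p := hp.out.odd_of_ne_two hp2
    obtain ⟨i, hi⟩ := hodd2
    have e : u = (u ^ 2) ^ (i + 1) := by
      rw [← pow_mul, show 2 * (i + 1) = p + 1 by omega, pow_succ, hu, one_mul]
    conv_lhs => rw [e]
    clear e hi
    generalize i + 1 = j
    induction j with
    | zero => simp
    | succ j ih => rw [pow_succ, MulAut.mul_apply, h3, ih]
  have h5 : ∀ i : ℕ, (u ^ i) x = x * c ^ i := by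
    intro i
    induction i with
    | zero => simp
    | succ i ih =>
      rw [pow_succ', MulAut.mul_apply, ih, map_mul, map_pow, h4, hc, pow_succ', ← mul_assoc,
        ← mul_assoc, mul_inv_cancel, one_mul]
  have h6 := h5 p
  rw [hu, MulAut.one_apply] at h6
  have h7 : c ^ p = 1 := left_eq_mul.1 h6
  have h8 : c = 1 := by
    rw [← orderOf_eq_one_iff]
    rcases (Nat.dvd_prime hp.out).1 (orderOf_dvd_of_pow_eq_one h7) with h | h
    · exact h
    · exact absurd (h ▸ orderOf_dvd_natCard c) hcop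
  have := congrArg (x * ·) h8
  simpa [hc] using this

/-- The soluble case. -/
theorem fixed_of_inverted [Finite Q] [Group.IsSolvable Q] {p : ℕ} [Fact p.Prime] (hp2 : p ≠ 2)
    (hcop : ¬ p ∣ Nat.card Q) (hodd : Odd (Nat.card Q)) (u s : MulAut Q) (hu : u ^ p = 1)
    (hs : ∀ x, s (s x) = x) (hus : ∀ x, u (s x) = s (u⁻¹ x)) (hfix : ∀ x, s x = x → u x = x) :
    u = 1 := by
  obtain ⟨N, hN⟩ := (Group.isSolvable_def (G := Q)).1 ‹_›
  have inv : ∀ (φ : MulAut Q) (i : ℕ) (x : Q), x ∈ derivedSeries Q i → φ x ∈ derivedSeries Q i := by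
    intro φ i x hx
    rw [← map_derivedSeries_eq (f := φ.toMonoidHom) φ.surjective i]
    exact ⟨x, hx, rfl⟩
  have key : ∀ i ≤ N, ∀ x ∈ derivedSeries Q (N - i), u x = x := by
    intro i hi
    induction i with
    | zero => intro x hx; rw [Nat.sub_zero, hN, Subgroup.mem_bot] at hx; subst hx; exact map_one u
    | succ i ih =>
      refine fixed_step hp2 hcop hodd u s hu hs hus hfix _ (derivedSeries Q (N - i))
        (inv s _) (inv s _) ?_ (ih (by omega)) (inv u _)
      rw [show N - i = N - (i + 1) + 1 by omega]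
      exact le_of_eq (derivedSeries_succ Q _).symm
  refine MulEquiv.ext fun x => ?_
  exact key N le_rfl x (by rw [Nat.sub_self, derivedSeries_zero]; exact Subgroup.mem_top x)

end Cfsg.Agent.SympLevi
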