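import Cfsg.Agent.Lib.SympLevi.Count
import Cfsg.Agent.Lib.SympLevi.Dihedral
import Cfsg.Agent.Lib.ZStar.Glauberman
import Cfsg.Agent.Lib.ZStar.Unique
import Cfsg.Agent.Lib.OddOrderTheorem.FTUse
import Cfsg.Agent.Lib.Solvable.Fitting
import Cfsg.Agent.Lib.Solvable.PiSeparable

/-!
# The reflection is not isolated (owner: helper67)

`exists_Fs_ne`: some member other than the axis is fixed pointwise by the reflection.
-/

set_option autoImplicit false
set_option linter.unusedSectionVars false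

namespace Cfsg.Agent.SympLevi

open Pointwise

variable {F : Type*} [Field F] [Fintype F] {p n : ℕ} {A : Subgroup (Equiv.Perm (V F))}
  (hA : Levi A) (hF : FieldHyp F p n)
include hA hF

/-- If the axis is alone, the centraliser of the reflection fixes it. -/
theorem Dsub_le_Bsub (h : ∀ S ∈ Fs A, S = axZ) {d : Equiv.Perm (V F)} (hd : d ∈ Dsub A) :
    d ∈ Bsub A := by
  refine mem_Bsub.2 ⟨(mem_Dsub.1 hd).1, h _ ?_⟩
  rw [Fs_eq_orbit hA hF]
  exact ⟨⟨d, hd⟩, rfl⟩

/-- Then the reflection is its only conjugate commuting with it. -/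
theorem conj_eq_sref (h : ∀ S ∈ Fs A, S = axZ) {g : Equiv.Perm (V F)} (hg : g ∈ A)
    (hc : (g * sref * g⁻¹) * sref = sref * (g * sref * g⁻¹)) : g * sref * g⁻¹ = sref := by
  set d := g * sref * g⁻¹ with hd
  have hdA : d ∈ A := mul_mem (mul_mem hg (sref_mem hA)) (inv_mem hg)
  have hdd : d * d = 1 := by
    rw [hd, show g * sref * g⁻¹ * (g * sref * g⁻¹) = g * (sref * sref) * g⁻¹ by group, sref_mul_self]
    group
  have hdne : d ≠ 1 := fun e => sref_ne_one hA hF (by
    have : sref = g⁻¹ * d * g := by rw [hd]; group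
    rw [this, e]; group)
  have hdZ : ∀ w ∈ (axZ : Set (V F)), d w ∈ (axZ : Set (V F)) := fun w hw => by
    have h1 := (mem_Bsub.1 (Dsub_le_Bsub hA hF h (mem_Dsub.2 ⟨hdA, hc⟩))).2
    rw [← h1]
    exact smul_mem d hw
  by_cases hfix : ∃ v ∈ (axZ : Set (V F)), v ≠ 0 ∧ d v = v
  · obtain ⟨v, hv, hv0, hdv⟩ := hfix
    obtain ⟨c, hc'⟩ := invol_form hA hF hdA hv hv0 hdv hdd hdne
    rw [hc', conj_sref hA hF] at hc ⊢
    rw [ut_mul, ut_mul] at hc
    have h1 := (ut_inj hc).1
    simp only [Units.val_neg, Units.val_one, mul_neg, mul_one, zero_mul, mul_zero, neg_zero,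
      neg_neg, add_zero, zero_add] at h1
    have h2 : (2 : F) * (2 * c) = 0 := by linear_combination h1
    have h3 : c = 0 := by simpa [hF.two] using h2
    rw [h3]
    simp
  exfalso
  refine axY_not_mem hA ⟨g⁻¹, inv_mem hg, member_eq ⟨g⁻¹, inv_mem hg, rfl⟩ ncard_axY ?_⟩
  rintro _ ⟨w, hw, rfl⟩
  show g⁻¹ w ∈ axY
  have hneg : d w = -w := by
    by_contra hne
    refine hfix ⟨d w + w, add_mem_member hA axZ_mem_orb (hdZ w hw) hw,
      fun e => hne (eq_neg_of_add_eq_zero_left e), ?_⟩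
    rw [hA.add d hdA, ← Equiv.Perm.mul_apply, hdd, Equiv.Perm.one_apply, add_comm]
  have hs : sref (g⁻¹ w) = -(g⁻¹ w) := by
    rw [← map_neg' hA (inv_mem hg), ← hneg, hd]
    exact (g.symm_apply_apply _).symm
  rw [sref_apply, Prod.ext_iff, Prod.ext_iff] at hs
  obtain ⟨h1, -, h3⟩ := hs
  simp only [Prod.fst_neg, Prod.snd_neg] at h1 h3
  constructor
  · have : (2 : F) * (g⁻¹ w).1 = 0 := by linear_combination h1
    simpa [hF.two] using this
  · have : (2 : F) * (g⁻¹ w).2.2 = 0 := by linear_combination h3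
    simpa [hF.two] using this

/-- `A` has no non-trivial normal `p`-subgroup. -/
theorem pCore_eq_bot : Cfsg.pCore p A = ⊥ := by
  classical
  haveI := Fact.mk hF.prime
  rw [Cores.pCore_eq_bot_iff]
  intro N hN hNp
  by_contra hne
  obtain ⟨b, hb, hbN⟩ : ∃ b : F, b ≠ 0 ∧ (⟨ut b 1, hA.ut_mem b 1⟩ : A) ∈ N := by
    obtain ⟨m, hm⟩ := IsPGroup.iff_card.1 hNp
    have hpd : p ∣ Nat.card N := by
      rw [hm]
      refine dvd_pow_self p fun h => hne ?_
      rw [h, pow_zero] at hm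
      exact Subgroup.eq_bot_of_card_eq N hm
    obtain ⟨⟨u, huN⟩, hord⟩ := exists_prime_orderOf_dvd_card' p hpd
    rw [Subgroup.orderOf_mk] at hord
    have hu0 : u ≠ 1 := fun e => hF.prime.ne_one (by rw [← hord, e, orderOf_one])
    have hup : (u : Equiv.Perm (V F)) ^ p = 1 := by
      rw [← Subgroup.coe_pow, ← hord, pow_orderOf_eq_one]; rfl
    haveI : Fintype (orb A) := Fintype.ofFinite _
    let σ : Equiv.Perm (orb A) :=
      ⟨fun T => ⟨(u : Equiv.Perm (V F)) • T.1, orb_smul u.2 T.2⟩,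
        fun T => ⟨(u : Equiv.Perm (V F))⁻¹ • T.1, orb_smul (inv_mem u.2) T.2⟩,
        fun T => Subtype.ext (inv_smul_smul _ _), fun T => Subtype.ext (smul_inv_smul _ _)⟩
    have hσ : σ ^ p ^ 1 = 1 := by
      have hpow : ∀ (i : ℕ) (T : orb A), ((σ ^ i) T).1 = (u : Equiv.Perm (V F)) ^ i • T.1 := by
        intro i
        induction i with
        | zero => intro T; simp
        | succ i ih =>
          intro T
          rw [pow_succ', Equiv.Perm.mul_apply, pow_succ', mul_smul, ← ih]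
          rfl
      refine Equiv.ext fun T => Subtype.ext ?_
      rw [pow_one, hpow, hup, one_smul]; rfl
    obtain ⟨⟨S, hS⟩, hfix⟩ := Equiv.Perm.exists_fixed_point_of_prime (p := p) (n := 1) (α := orb A)
      (by
        rw [← Nat.card_eq_fintype_card, Nat.card_coe_set_eq]
        intro hd
        have h1 : p ∣ (orb A).ncard - 1 :=
          (hF.card ▸ dvd_pow_self p (by have := hF.pos; omega)).trans (card_dvd_orb_sub_one hA hF)
        have h2 := orb_pos hA hF
        have h3 := Nat.dvd_sub hd h1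
        rw [show (orb A).ncard - ((orb A).ncard - 1) = 1 by omega] at h3
        exact hF.prime.ne_one (Nat.dvd_one.1 h3)) hσ
    have huS : (u : Equiv.Perm (V F)) • S = S := congrArg Subtype.val hfix
    obtain ⟨v, hvS, hv0, huv⟩ := exists_fixed_in_member hA p n hF.pos hF.card u.2 hup hS huS
    obtain ⟨a, ha, rfl⟩ := hS
    obtain ⟨v', hv', rfl⟩ := hvS
    replace huv : (u : Equiv.Perm (V F)) (a v') = a v' := huv
    have hv'0 : v' ≠ 0 := fun h => hv0 (by subst h; exact map_zero' hA ha)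
    obtain ⟨b, hb⟩ := p_form hA hF (u := a⁻¹ * u * a) (mul_mem (mul_mem (inv_mem ha) u.2) ha)
      (by rw [show (a⁻¹ * (u : Equiv.Perm (V F)) * a) ^ p = a⁻¹ * (u : Equiv.Perm (V F)) ^ p * a by
            simpa using conj_pow (i := p) (a := a⁻¹) (b := (u : Equiv.Perm (V F)))]
          rw [hup]; group) hv' hv'0
      (by show a⁻¹ ((u : Equiv.Perm (V F)) (a v')) = v'; rw [huv]; exact a.symm_apply_apply _)
    refine ⟨b, fun h0 => hu0 ?_, ?_⟩
    · rw [h0, ut_zero_one] at hb
      refine Subtype.ext ?_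
      calc (u : Equiv.Perm (V F)) = a * (a⁻¹ * u * a) * a⁻¹ := by group
        _ = 1 := by rw [hb]; group
    · have h1 := hN.conj_mem u huN (⟨a, ha⟩ : A)⁻¹
      rw [inv_inv] at h1
      convert h1 using 1
      exact Subtype.ext hb.symm
  -- the fixed points of `N` lie in the axis and are invariant
  have h0 : (0 : V F) ∈ MulAction.fixedPoints N (V F) := fun x => map_zero' hA x.1.2
  have hcard : p ∣ Nat.card (V F) := by
    rw [Nat.card_prod, hF.card]
    exact (dvd_pow_self p (by have := hF.pos; omega)).mul_right _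
  obtain ⟨v, hv, hv0⟩ := hNp.exists_fixed_point_of_prime_dvd_card_of_fixed_point _ hcard h0
  have hfixZ : ∀ w ∈ MulAction.fixedPoints N (V F), w ∈ (axZ : Set (V F)) := fun w hw =>
    fix_ut hF.two hb (hw ⟨_, hbN⟩)
  obtain ⟨a, ha, hmov⟩ := hA.moves
  refine hmov (smul_axZ_of_mem hA hF.two ha (hfixZ v hv) (Ne.symm hv0) (hfixZ _ ?_))
  rintro ⟨x, hx⟩
  show (x : Equiv.Perm (V F)) (a v) = a v
  have h1 : a⁻¹ ((x : Equiv.Perm (V F)) (a v)) = v :=
    hv ⟨(⟨a, ha⟩ : A)⁻¹ * x * (⟨a, ha⟩ : A)⁻¹⁻¹, hN.conj_mem x hx _⟩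
  have h2 := congrArg a h1
  simpa using h2

/-- **Some other member is fixed pointwise by the reflection.** -/
theorem exists_Fs_ne : ∃ S ∈ Fs A, S ≠ axZ := by
  classical
  by_contra hno
  have h : ∀ S ∈ Fs A, S = axZ := fun S hS => by_contra fun hne => hno ⟨S, hS, hne⟩
  haveI := Fact.mk hF.prime
  let s : A := ⟨sref, sref_mem hA⟩
  let u : A := ⟨ut 1 1, hA.ut_mem 1 1⟩
  have hs2 : s * s = 1 := Subtype.ext sref_mul_self
  have hiso : Cfsg.IsIsolatedInvolution s := by
    refine ⟨orderOf_eq_prime (by rw [sq]; exact hs2)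
      (fun e => sref_ne_one hA hF (congrArg Subtype.val e)), fun g hg => Subtype.ext ?_⟩
    exact conj_eq_sref hA hF h g.2 (congrArg Subtype.val hg.eq).symm
  set K := Cfsg.pPrimeCore 2 A with hK
  haveI : Group.IsSolvable K := OddOrderTheorem.oddSolvable _
    (Nat.coprime_two_right.1 (Cores.coprime_card_pPrimeCore 2))
  have huK : u ∈ K := by
    have h1 := ZStar.zStar_of_brauerSuzuki ZStar.uniqueInvolution hiso
      (⟨ut (-(1 / 2) : F) 1, hA.ut_mem _ _⟩ : A)
    convert h1 using 1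
    refine Subtype.ext ?_
    show ut 1 1 = sref * ut (-(1 / 2) : F) 1 * sref⁻¹ * (ut (-(1 / 2) : F) 1)⁻¹
    rw [show (sref (F := F))⁻¹ = sref from inv_eq_of_mul_eq_one_left sref_mul_self, ut_inv,
      sref_mul_ut hA hF, mul_assoc _ sref sref, sref_mul_self, mul_one, ut_mul]
    congr 1
    · rw [Units.val_one]
      field_simp [hF.two]
      ring
    · simp
  have hcK : Cfsg.piCore {p} K = ⊥ := by
    rw [← Cores.pCore_eq_piCore]
    have h1 := Cores.pCore_map_subtype K p
    rw [pCore_eq_bot hA hF, bot_inf_eq] at h1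
    exact (Subgroup.map_eq_bot_iff_of_injective _ K.subtype_injective).1 h1
  have hcen := Solvable.centralizer_piCore_le (π := ({p} : Set ℕ)ᶜ)
    (Solvable.isPiSeparable_of_isSolvable (G := K) _) (by rwa [compl_compl])
  set Q : Subgroup A := (Cfsg.piCore ({p} : Set ℕ)ᶜ K).map K.subtype with hQ
  haveI hQn : Q.Normal := Cores.map_subtype_normal_of_characteristic K _
  have hQc : Nat.card Q = Nat.card (Cfsg.piCore ({p} : Set ℕ)ᶜ K) := Cores.card_map_subtype K _
  have hQcop : ¬ p ∣ Nat.card Q := fun hd =>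
    (Cores.card_piCore (G := K) ({p} : Set ℕ)ᶜ hF.prime (hQc ▸ hd)) rfl
  have hQodd : Odd (Nat.card Q) := (Nat.coprime_two_right.1 (Cores.coprime_card_pPrimeCore (G := A) 2))
    |>.of_dvd_nat (hQc ▸ Subgroup.card_subgroup_dvd_card _)
  haveI : Group.IsSolvable Q := OddOrderTheorem.oddSolvable _ hQodd
  have hup : u ^ p = 1 := Subtype.ext (ut_pow_p hA hF 1)
  have hus : u * s = s * u⁻¹ := Subtype.ext (by
    show ut 1 1 * sref = sref * (ut 1 1)⁻¹
    rw [ut_inv, sref_mul_ut hA hF, neg_neg])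
  have h1 := fixed_of_inverted hF.odd_p hQcop hQodd (MulAut.conjNormal u) (MulAut.conjNormal s)
    (by rw [← map_pow, hup, map_one])
    (fun x => by rw [← MulAut.mul_apply, ← map_mul, hs2, map_one]; rfl)
    (fun x => by rw [← map_inv, ← MulAut.mul_apply, ← map_mul, hus, map_mul, MulAut.mul_apply])
    (fun x hx => ?_)
  · have huQ : (⟨u, huK⟩ : K) ∈ Cfsg.piCore ({p} : Set ℕ)ᶜ K := by
      refine hcen (Subgroup.mem_centralizer_iff.2 fun y hy => Subtype.ext ?_)
      have h2 := congrArg Subtype.val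
        (DFunLike.congr_fun h1 (⟨y, Subgroup.mem_map_of_mem K.subtype hy⟩ : Q))
      simp only [MulAut.conjNormal_apply, MulAut.one_apply] at h2
      exact (mul_inv_eq_iff_eq_mul.1 h2).symm
    have hpu : orderOf u = p := orderOf_eq_prime hup (fun e => one_ne_zero
      (ut_inj (b := (1 : F)) (b' := 0) ((congrArg Subtype.val e).trans ut_zero_one.symm)).1)
    refine hQcop ?_
    rw [← hpu]
    have hm : u ∈ Q := Subgroup.mem_map_of_mem K.subtype huQ
    exact (Subgroup.orderOf_mk u hm).symm.dvd.trans (orderOf_dvd_natCard (⟨u, hm⟩ : Q))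
  · -- a fixed point of the reflection lies in `B` and centralises `ut 1 1`
    have hxs : ((x : A) : Equiv.Perm (V F)) * sref = (sref (F := F)) * ((x : A) : Equiv.Perm (V F)) := by
      have h2 := congrArg (fun z : Q => ((z : A) : Equiv.Perm (V F))) hx
      simp only [MulAut.conjNormal_apply, Subgroup.coe_mul, InvMemClass.coe_inv] at h2
      exact (mul_inv_eq_iff_eq_mul.1 h2).symm
    have hxB := Dsub_le_Bsub hA hF h (mem_Dsub.2 ⟨(x : A).2, hxs⟩)
    obtain ⟨hxA, hxZ⟩ := mem_Bsub.1 hxB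
    have h1 : ((1, 0, 0) : V F) ∈ (axZ : Set (V F)) := ⟨rfl, rfl⟩
    have hm : ((x : A) : Equiv.Perm (V F))⁻¹ ((1, 0, 0) : V F) ∈ (axZ : Set (V F)) := by
      rw [← mem_smul_iff, hxZ]; exact h1
    obtain ⟨b, hb⟩ := p_form hA hF
      (u := ((x : A) : Equiv.Perm (V F)) * ut 1 1 * ((x : A) : Equiv.Perm (V F))⁻¹)
      (mul_mem (mul_mem hxA (hA.ut_mem _ _)) (inv_mem hxA))
      (by rw [conj_pow, ut_pow_p hA hF]; group) h1 (by simp)
      (by show (x : A).1 (ut 1 1 ((x : A).1⁻¹ (1, 0, 0))) = _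
          rw [ut_fix hm]; exact (x : A).1.apply_symm_apply _)
    set c : A := (x : A) * u * (x : A)⁻¹ * u⁻¹ with hc
    have hcQ : c ∈ Q := by
      rw [hc, mul_assoc, mul_assoc, ← mul_assoc u]
      exact mul_mem x.2 (hQn.conj_mem _ (inv_mem x.2) u)
    have hcp : c ^ p = 1 := Subtype.ext (by
      rw [Subgroup.coe_pow, hc]
      show (_ * (ut 1 1)⁻¹) ^ p = 1
      rw [show ((x : A) * u * (x : A)⁻¹ : A).1 = ut b 1 from hb, ut_inv, ut_mul, Units.val_one,
        mul_one, one_mul]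
      exact ut_pow_p hA hF _)
    have hc1 : c = 1 := by
      rw [← orderOf_eq_one_iff]
      rcases (Nat.dvd_prime hF.prime).1 (orderOf_dvd_of_pow_eq_one hcp) with e | e
      · exact e
      · exact absurd (((Subgroup.orderOf_mk c hcQ).trans e).symm.dvd.trans (orderOf_dvd_natCard (⟨c, hcQ⟩ : Q))) hQcop
    apply Subtype.ext
    rw [MulAut.conjNormal_apply]
    rw [hc, mul_inv_eq_one, mul_inv_eq_iff_eq_mul] at hc1
    rw [← hc1]; group

end Cfsg.Agent.SympLevi
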