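import Cfsg.Agent.Lib.SympLevi.Torus

/-!
# Identification (owner: helper67)

`exists_hom`: a `Levi` group is the image of `GL₂` under a conjugate of the symmetric square.
-/

set_option autoImplicit false
set_option linter.unusedSectionVars false

namespace Cfsg.Agent.SympLevi

open Pointwise

variable {F : Type*} [Field F] [Fintype F] {p n : ℕ}

/-- An involutive field automorphism is trivial here. -/
theorem FieldHyp.involutive_trivial (hF : FieldHyp F p n) (φ : F → F)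
    (hadd : ∀ x y, φ (x + y) = φ x + φ y) (hmul : ∀ x y, φ (x * y) = φ x * φ y)
    (hinv : ∀ x, φ (φ x) = x) (x : F) : φ x = x := by
  classical
  have h0 : φ 0 = 0 := by
    have h := hadd 0 0
    rwa [add_zero, left_eq_add] at h
  have hneg : ∀ x, φ (-x) = -φ x := fun x =>
    eq_neg_of_add_eq_zero_left (by rw [← hadd, neg_add_cancel, h0])
  have hinj : Function.Injective φ := fun a b e => by rw [← hinv a, e, hinv]
  have h1 : φ 1 = 1 := by
    have h := hmul 1 1
    rw [mul_one] at h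
    have hne : φ 1 ≠ 0 := fun e => one_ne_zero (hinj (e.trans h0.symm))
    exact (mul_eq_left₀ hne).1 h.symm
  by_contra hx
  set δ := x - φ x with hδ
  have hδ0 : δ ≠ 0 := sub_ne_zero.2 (Ne.symm hx)
  have hδn : φ δ = -δ := by
    rw [hδ, sub_eq_add_neg, hadd, hneg, hinv]; ring
  have hhalf : φ (1 / 2) = 1 / 2 := by
    have h2 : φ 2 = 2 := by rw [← one_add_one_eq_two, hadd, h1]
    have h := hmul 2 (1 / 2)
    rw [h2, mul_one_div, div_self hF.two, h1] at h
    field_simp [hF.two]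
    linear_combination -h
  have hδi : φ (1 / δ) = -(1 / δ) := by
    have h := hmul δ (1 / δ)
    rw [hδn, mul_one_div, div_self hδ0, h1] at h
    field_simp [hδ0]
    linear_combination h
  let K : Finset F := Finset.univ.filter fun y => φ y = y
  let f : F → F × F := fun y => (1 / 2 * (y + φ y), 1 / 2 * (1 / δ) * (y - φ y))
  have hf : Finset.univ.image f = K ×ˢ K := by
    ext ⟨a, b⟩
    simp only [Finset.mem_image, Finset.mem_univ, true_and, Finset.mem_product, K, Finset.mem_filter]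
    constructor
    · rintro ⟨y, hy⟩
      simp only [f, Prod.mk.injEq] at hy
      obtain ⟨rfl, rfl⟩ := hy
      constructor
      · rw [hmul, hhalf, hadd, hinv, add_comm]
      · rw [hmul, hmul, hhalf, hδi, sub_eq_add_neg, hadd, hneg, hinv]; ring
    · rintro ⟨ha, hb⟩
      refine ⟨a + b * δ, ?_⟩
      simp only [f, hadd, hmul, ha, hb, hδn, Prod.mk.injEq]
      constructor <;> field_simp [hF.two, hδ0] <;> ring
  have hfi : Function.Injective f := by
    intro a b e
    simp only [f, Prod.mk.injEq] at e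
    have e1 : a + φ a = b + φ b := mul_left_cancel₀ (by simp [hF.two]) e.1
    have e2 : a - φ a = b - φ b := mul_left_cancel₀ (by simp [hF.two, hδ0]) e.2
    have : (2 : F) * (a - b) = 0 := by linear_combination e1 + e2
    simpa [hF.two, sub_eq_zero] using this
  have hc := congrArg Finset.card hf
  rw [Finset.card_image_of_injective _ hfi, Finset.card_univ, Finset.card_product,
    ← Nat.card_eq_fintype_card] at hc
  have h4 := hF.four
  rw [hc, Nat.mul_mod] at h4
  have := Nat.mod_lt K.card (show 4 > 0 by norm_num)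
  interval_cases h : K.card % 4 <;> omega

/-- Every element is a sum and difference of squares. -/
theorem FieldHyp.eq_sq_sub (hF : FieldHyp F p n) (x : F) : x = ((x + 1) / 2) ^ 2 - ((x - 1) / 2) ^ 2 := by
  field_simp [hF.two]
  ring

variable {A : Subgroup (Equiv.Perm (V F))} (hA : Levi A) (hF : FieldHyp F p n)
include hA hF

/-- The components of an element preserving the three axes. -/
theorem diag_form {h : Equiv.Perm (V F)} (hh : h ∈ Hsub A) (hW : h • (axW : Set (V F)) = axW) :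
    ∃ α β γ : F → F, ∀ z y w, h ((z, y, w) : V F) = (α z, β y, γ w) := by
  obtain ⟨hhA, hhZ, hhc⟩ := mem_Hsub.1 hh
  refine ⟨fun z => (h (z, 0, 0)).1, fun y => (h (0, y, 0)).2.1, fun w => (h (0, 0, w)).2.2,
    fun z y w => ?_⟩
  have h1 : h ((z, 0, 0) : V F) ∈ (axZ : Set (V F)) := hhZ ▸ smul_mem h ⟨rfl, rfl⟩
  have h3 : h ((0, 0, w) : V F) ∈ (axW : Set (V F)) := hW ▸ smul_mem h ⟨rfl, rfl⟩
  have h2 : sref (h ((0, y, 0) : V F)) = -h (0, y, 0) := by
    rw [← Equiv.Perm.mul_apply, ← hhc, Equiv.Perm.mul_apply, sref_apply, ← map_neg' hA hhA]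
    simp
  rw [sref_apply, Prod.ext_iff, Prod.ext_iff] at h2
  obtain ⟨e1, -, e3⟩ := h2
  simp only [Prod.fst_neg, Prod.snd_neg] at e1 e3
  have e1' : (h ((0, y, 0) : V F)).1 = 0 := by
    have : (2 : F) * (h ((0, y, 0) : V F)).1 = 0 := by linear_combination e1
    simpa [hF.two] using this
  have e3' : (h ((0, y, 0) : V F)).2.2 = 0 := by
    have : (2 : F) * (h ((0, y, 0) : V F)).2.2 = 0 := by linear_combination e3
    simpa [hF.two] using this
  have hsum : ((z, y, w) : V F) = (z, 0, 0) + ((0, y, 0) + (0, 0, w)) := by simp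
  rw [hsum, hA.add h hhA, hA.add h hhA]
  ext <;> simp [h1.1, h1.2, h3.1, h3.2, e1', e3']

/-- Transitivity is impossible. -/
theorem isSquare_value (hsq : ∀ ν : F, ν ≠ 0 → ∃ a ∈ A, ∀ z, a ((z, 0, 0) : V F) = (ν ^ 2 * z, 0, 0))
    {a : Equiv.Perm (V F)} (ha : a ∈ A) {x : F} (hx : a ((1, 0, 0) : V F) = (x, 0, 0)) : IsSquare x := by
  by_contra hns
  have hx0 : x ≠ 0 := fun h => hns (h ▸ IsSquare.zero)
  obtain ⟨z, hz, hnt⟩ := hA.notTrans
  rcases hF.isSquare_or_neg z with ⟨r, hr⟩ | ⟨r, hr⟩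
  · obtain ⟨b, hb, hb'⟩ := hsq r (fun h => hz (by rw [hr, h, mul_zero]))
    refine hnt b hb ?_
    rw [hb', mul_one, sq, ← hr]
  · rcases hF.isSquare_or_neg x with h | ⟨s, hs⟩
    · exact hns h
    obtain ⟨b, hb, hb'⟩ := hsq (r / s) (div_ne_zero (fun h => hz (by
      rw [← neg_eq_zero, hr, h, mul_zero])) (fun h => hx0 (by rw [← neg_eq_zero, hs, h, mul_zero])))
    refine hnt (b * a) (mul_mem hb ha) ?_
    show b (a (1, 0, 0)) = _
    rw [hx, hb', div_pow, sq r, sq s, ← hr, ← hs]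
    simp [neg_div_neg_eq, hx0]

/-- The image of `GL₂` lies in `A` once the third axis is a member. -/
theorem range_le (hW : (axW : Set (V F)) ∈ orb A) :
    (psi : GL (Fin 2) F →* _).range ≤ A ∧ Hsub A ≤ (psi : GL (Fin 2) F →* _).range ∧
      ∃ (r t : F) (h : 0 * 0 - r * t ≠ 0), psi (mat 0 r t 0 h) • (axZ : Set (V F)) = axW := by
  obtain ⟨⟨g, hg, hgZ, hgW⟩, hfix⟩ := swap hA hF hW
  obtain ⟨hgA, hgc⟩ := mem_Dsub.1 hg
  have hginv : g⁻¹ * sref = sref * g⁻¹ := by
    rw [eq_mul_inv_iff_mul_eq, mul_assoc, ← hgc, inv_mul_cancel_left]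
  -- the components of `g`
  obtain ⟨γ, β, α, hform⟩ : ∃ γ β α : F → F, ∀ z y w, g ((z, y, w) : V F) = (γ w, β y, α z) := by
    refine ⟨fun w => (g (0, 0, w)).1, fun y => (g (0, y, 0)).2.1, fun z => (g (z, 0, 0)).2.2,
      fun z y w => ?_⟩
    have h1 : g ((z, 0, 0) : V F) ∈ (axW : Set (V F)) := hgZ ▸ smul_mem g ⟨rfl, rfl⟩
    have h3 : g ((0, 0, w) : V F) ∈ (axZ : Set (V F)) := hgW ▸ smul_mem g ⟨rfl, rfl⟩
    have h2 : sref (g ((0, y, 0) : V F)) = -g (0, y, 0) := by
      rw [← Equiv.Perm.mul_apply, ← hgc, Equiv.Perm.mul_apply, sref_apply, ← map_neg' hA hgA]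
      simp
    rw [sref_apply, Prod.ext_iff, Prod.ext_iff] at h2
    obtain ⟨e1, -, e3⟩ := h2
    simp only [Prod.fst_neg, Prod.snd_neg] at e1 e3
    have e1' : (g ((0, y, 0) : V F)).1 = 0 := by
      have : (2 : F) * (g ((0, y, 0) : V F)).1 = 0 := by linear_combination e1
      simpa [hF.two] using this
    have e3' : (g ((0, y, 0) : V F)).2.2 = 0 := by
      have : (2 : F) * (g ((0, y, 0) : V F)).2.2 = 0 := by linear_combination e3
      simpa [hF.two] using this
    have hsum : ((z, y, w) : V F) = (z, 0, 0) + ((0, y, 0) + (0, 0, w)) := by simp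
    rw [hsum, hA.add g hgA, hA.add g hgA]
    ext <;> simp [h1.1, h1.2, h3.1, h3.2, e1', e3']
  have hγadd : ∀ x y, γ (x + y) = γ x + γ y := fun x y => by
    have h := congrArg Prod.fst (hA.add g hgA ((0, 0, x) : V F) (0, 0, y))
    simpa [hform] using h
  have hβadd : ∀ x y, β (x + y) = β x + β y := fun x y => by
    have h := congrArg (fun v : V F => v.2.1) (hA.add g hgA ((0, x, 0) : V F) (0, y, 0))
    simpa [hform] using h
  have hαadd : ∀ x y, α (x + y) = α x + α y := fun x y => by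
    have h := congrArg (fun v : V F => v.2.2) (hA.add g hgA ((x, 0, 0) : V F) (y, 0, 0))
    simpa [hform] using h
  have hg0 : g ((0, 0, 0) : V F) = (0, 0, 0) := map_zero' hA hgA
  rw [hform, Prod.mk.injEq, Prod.mk.injEq] at hg0
  obtain ⟨hγ0, hβ0, hα0⟩ := hg0
  have hγne : ∀ w, w ≠ 0 → γ w ≠ 0 := fun w hw h => hw (by
    have := g.injective ((hform 0 0 w).trans ((by rw [h, hα0, hβ0, hγ0]) : _ = (γ 0, β 0, α 0)) |>.trans
      (hform 0 0 0).symm)
    exact (Prod.ext_iff.1 (Prod.ext_iff.1 this).2).2)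
  have hβne : ∀ w, w ≠ 0 → β w ≠ 0 := fun w hw h => hw (by
    have := g.injective ((hform 0 w 0).trans ((by rw [h, hβ0]) : _ = (γ 0, β 0, α 0)) |>.trans
      (hform 0 0 0).symm)
    exact (Prod.ext_iff.1 (Prod.ext_iff.1 this).2).1)
  -- the fixators of the third axis
  have hMu : ∀ μ : Fˣ, ∃ ν : F, ν ≠ 0 ∧ g * tor μ * g⁻¹ ∈ Hsub A ∧
      ∀ z y w, (g * tor μ * g⁻¹) ((z, y, w) : V F) = (ν ^ 2 * z, ν * y, w) := by
    intro μ
    set h := g * tor μ * g⁻¹ with hh
    have hhA : h ∈ A := mul_mem (mul_mem hgA (hA.ut_mem _ _)) (inv_mem hgA)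
    have hhH : h ∈ Hsub A := by
      refine mem_Hsub.2 ⟨hhA, ?_, ?_⟩
      · rw [hh, mul_smul, mul_smul, inv_smul_eq_iff.2 hgW.symm, tor_smul_axW, hgW]
      · rw [hh, mul_assoc, hginv, ← mul_assoc, mul_assoc g, tor_comm_sref, ← mul_assoc g, hgc]
        simp only [mul_assoc]
    obtain ⟨a, b, c, habc⟩ := diag_form hA hF hhH (hfix h hhH)
    have hc : ∀ w, c w = w := by
      intro w
      have hm : g⁻¹ ((0, 0, w) : V F) ∈ (axZ : Set (V F)) := by
        rw [← mem_smul_iff, hgZ]; exact ⟨rfl, rfl⟩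
      have h1 : h ((0, 0, w) : V F) = (0, 0, w) := by
        show g (tor μ (g⁻¹ (0, 0, w))) = _
        rw [ut_fix hm]; exact g.apply_symm_apply _
      rw [habc] at h1
      exact (Prod.ext_iff.1 (Prod.ext_iff.1 h1).2).2
    obtain ⟨-, hhZ, -⟩ := mem_Hsub.1 hhH
    have h1 : ((1, 0, 0) : V F) ∈ (axZ : Set (V F)) := ⟨rfl, rfl⟩
    have hm : h⁻¹ ((1, 0, 0) : V F) ∈ (axZ : Set (V F)) := by rw [← mem_smul_iff, hhZ]; exact h1
    have hadd := hA.add h hhA
    have ha0 : a 0 = 0 ∧ b 0 = 0 := by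
      have := map_zero' hA hhA
      rw [show (0 : V F) = (0, 0, 0) from rfl, habc] at this
      exact ⟨(Prod.ext_iff.1 this).1, (Prod.ext_iff.1 (Prod.ext_iff.1 this).2).1⟩
    have key : ∀ s : F, ∃ s' : F, ∀ w, a (s ^ 2 * w) = s' ^ 2 * w ∧ b (s * w) = s' * w := by
      intro s
      obtain ⟨s', hs'⟩ := p_form hA hF (u := h * ut s 1 * h⁻¹)
        (mul_mem (mul_mem hhA (hA.ut_mem _ _)) (inv_mem hhA))
        (by rw [conj_pow, ut_pow_p hA hF]; group) h1 (by simp)
        (by show h (ut s 1 (h⁻¹ (1, 0, 0))) = _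
            rw [ut_fix hm]; exact h.apply_symm_apply _)
      refine ⟨s', fun w => ?_⟩
      have e1 : h (ut s 1 ((0, 0, w) : V F)) = ut s' 1 (h (0, 0, w)) := by
        rw [← Equiv.Perm.mul_apply, ← Equiv.Perm.mul_apply, ← hs', inv_mul_cancel_right]
      simp only [ut_apply, habc, hc, Units.val_one, mul_zero, mul_one, one_mul, one_pow, add_zero,
        zero_add, Prod.mk.injEq, ha0.1, ha0.2] at e1
      exact ⟨e1.1, e1.2.1⟩
    obtain ⟨ν, hν⟩ := key 1
    have hν0 : ν ≠ 0 := by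
      intro e
      have hb1 : b 1 = 0 := by simpa [e] using (hν 1).2
      have : h ((0, 1, 0) : V F) = h 0 := by
        rw [habc, hb1, hc, ha0.1, map_zero' hA hhA]; rfl
      exact one_ne_zero (Prod.ext_iff.1 (Prod.ext_iff.1 (h.injective this)).2).1
    refine ⟨ν, hν0, hhH, fun z y w => ?_⟩
    have hz := (hν z).1
    have hy := (hν y).2
    rw [one_pow, one_mul] at hz
    rw [one_mul] at hy
    rw [habc, hz, hy, hc]
  choose f hf0 hfH hf using hMu
  -- how `g` conjugates the torus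
  have hβμ : ∀ (μ : Fˣ) y, β ((μ : F) * y) = f μ * β y ∧ γ ((μ : F) ^ 2 * y) = f μ ^ 2 * γ y := by
    intro μ y
    constructor
    · have e : (g * tor μ * g⁻¹) (g ((0, y, 0) : V F)) = g (tor μ (0, y, 0)) := by
        rw [← Equiv.Perm.mul_apply, inv_mul_cancel_right, Equiv.Perm.mul_apply]
      simp only [tor_apply, hform, hf, mul_zero, hγ0, hα0, Prod.mk.injEq] at e
      exact e.2.1.symm
    · have e : (g * tor μ * g⁻¹) (g ((0, 0, y) : V F)) = g (tor μ (0, 0, y)) := by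
        rw [← Equiv.Perm.mul_apply, inv_mul_cancel_right, Equiv.Perm.mul_apply]
      simp only [tor_apply, hform, hf, mul_zero, hβ0, hα0, Prod.mk.injEq] at e
      exact e.1.symm
  have hβ1 : β 1 ≠ 0 := hβne 1 one_ne_zero
  have hfval : ∀ μ : Fˣ, f μ = β μ / β 1 := fun μ => by
    rw [eq_div_iff hβ1, ← (hβμ μ 1).1, mul_one]
  have hsq : ∀ ν : F, ν ≠ 0 → ∃ a ∈ Hsub A,
      ∀ z y w, a ((z, y, w) : V F) = (ν ^ 2 * z, ν * y, w) := by
    intro ν hν
    obtain ⟨⟨z0, y0, w0⟩, hv⟩ : ∃ v, g v = ((0, ν * β 1, 0) : V F) := g.surjective _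
    rw [hform, Prod.mk.injEq, Prod.mk.injEq] at hv
    have hy0 : y0 ≠ 0 := fun h => mul_ne_zero hν hβ1 (by rw [← hv.2.1, h, hβ0])
    refine ⟨_, hfH (Units.mk0 y0 hy0), ?_⟩
    rw [show ν = f (Units.mk0 y0 hy0) by rw [hfval, Units.val_mk0, hv.2.1, mul_div_cancel_right₀ _ hβ1]]
    exact hf _
  have hsqA : ∀ ν : F, ν ≠ 0 → ∃ a ∈ A, ∀ z, a ((z, 0, 0) : V F) = (ν ^ 2 * z, 0, 0) := by
    intro ν hν
    obtain ⟨a, ha, hav⟩ := hsq ν hν
    exact ⟨a, (mem_Hsub.1 ha).1, fun z => by rw [hav, mul_zero]⟩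
  have hdiag : ∀ (ν : F) (hν : ν * 1 - 0 * 0 ≠ 0), psi (mat ν 0 0 1 hν) ∈ Hsub A := by
    intro ν hν
    obtain ⟨a, ha, hav⟩ := hsq ν (by simpa using hν)
    convert ha using 1
    refine Equiv.ext fun ⟨z, y, w⟩ => ?_
    rw [hav, psi_mat]
    simp [act]
  -- `H`
  have hHle : Hsub A ≤ (psi : GL (Fin 2) F →* _).range := by
    intro k hk
    obtain ⟨hkA, hkZ, -⟩ := mem_Hsub.1 hk
    have h1 : k ((1, 0, 0) : V F) ∈ (axZ : Set (V F)) := hkZ ▸ smul_mem k ⟨rfl, rfl⟩
    rw [axZ_eq] at h1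
    obtain ⟨x, hx⟩ := h1
    simp only at hx
    obtain ⟨r, hr⟩ := isSquare_value hA hF hsqA hkA hx.symm
    have hr0 : r ≠ 0 := by
      intro h
      have : k ((1, 0, 0) : V F) = k 0 := by
        rw [← hx, hr, h, mul_zero, map_zero' hA hkA]; rfl
      exact one_ne_zero (Prod.ext_iff.1 (k.injective this)).1
    have hd : r⁻¹ * 1 - 0 * 0 ≠ 0 := by simpa using hr0
    obtain ⟨b, l, hbl⟩ := hA.stab (psi (mat r⁻¹ 0 0 1 hd) * k)
      (mul_mem (mem_Hsub.1 (hdiag _ hd)).1 hkA) 1 one_ne_zero (by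
      rw [Equiv.Perm.mul_apply, ← hx, psi_mat, hr]
      simp [act, sq]
      field_simp)
    rw [show k = (psi (mat r⁻¹ 0 0 1 hd))⁻¹ * ut b l by rw [← hbl, inv_mul_cancel_left]]
    exact mul_mem (inv_mem ⟨_, rfl⟩) (ut_mem_range _ _)
  -- `g` is linear
  let φ : F → F := fun x => β x / β 1
  have hφadd : ∀ x y, φ (x + y) = φ x + φ y := fun x y => by
    simp only [φ, hβadd, add_div]
  have hφmul : ∀ x y, φ (x * y) = φ x * φ y := by
    intro x y
    rcases eq_or_ne x 0 with rfl | hx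
    · simp [φ, hβ0]
    · have := (hβμ (Units.mk0 x hx) y).1
      rw [Units.val_mk0, hfval, Units.val_mk0] at this
      simp only [φ, this]
      ring
  have hφsq : ∀ x, γ (x ^ 2) = φ (x ^ 2) * γ 1 := by
    intro x
    rcases eq_or_ne x 0 with rfl | hx
    · simp [φ, hβ0, hγ0]
    · have := (hβμ (Units.mk0 x hx) 1).2
      rw [Units.val_mk0, hfval, Units.val_mk0, mul_one] at this
      rw [this, sq x, hφmul, sq]
  have hφ0 : φ 0 = 0 := by simp [φ, hβ0]
  have hγφ : ∀ x, γ x = φ x * γ 1 := by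
    intro x
    have key : ∀ u v : F, γ (u ^ 2 - v ^ 2) = φ (u ^ 2 - v ^ 2) * γ 1 := fun u v => by
      have e1 := hγadd (u ^ 2 - v ^ 2) (v ^ 2)
      have e2 := hφadd (u ^ 2 - v ^ 2) (v ^ 2)
      rw [sub_add_cancel, hφsq, hφsq] at e1
      rw [sub_add_cancel] at e2
      rw [e2] at e1
      linear_combination -e1
    rw [hF.eq_sq_sub x]
    exact key _ _
  have hαsq : ∀ x, α (x ^ 2) = φ (x ^ 2) * α 1 := by
    intro x
    rcases eq_or_ne x 0 with rfl | hx
    · simp [φ, hβ0, hα0]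
    obtain ⟨a, ha, hav⟩ := hsq x hx
    obtain ⟨haA, haZ, hac⟩ := mem_Hsub.1 ha
    have h1 : ((1, 0, 0) : V F) ∈ (axZ : Set (V F)) := ⟨rfl, rfl⟩
    have hm : g⁻¹ ((1, 0, 0) : V F) ∈ (axW : Set (V F)) := by rw [← mem_smul_iff, hgW]; exact h1
    obtain ⟨s, l, hsl⟩ := fix_axZ hA (a := g * a * g⁻¹) (mul_mem (mul_mem hgA haA) (inv_mem hgA)) h1
      (by simp) (by
        show g (a (g⁻¹ (1, 0, 0))) = _
        rw [show a (g⁻¹ (1, 0, 0)) = g⁻¹ (1, 0, 0) by
          generalize hgi : g⁻¹ ((1, 0, 0) : V F) = w at hm ⊢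
          obtain ⟨w1, w2, w3⟩ := w
          obtain ⟨rfl, rfl⟩ : w1 = 0 ∧ w2 = 0 := hm
          rw [hav, mul_zero, mul_zero]]
        exact g.apply_symm_apply _)
    have e : ∀ v, g (a v) = ut s l (g v) := fun v => by
      rw [← hsl, ← Equiv.Perm.mul_apply, ← Equiv.Perm.mul_apply, inv_mul_cancel_right]
    have e1 := congrArg (fun v : V F => v.2.2) (e ((1, 0, 0) : V F))
    have e2 := congrArg (fun v : V F => v.2.1) (e ((0, 1, 0) : V F))
    simp only [hav, hform, ut_apply, mul_zero, mul_one, hα0, add_zero] at e1 e2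
    rw [e1, sq x, hφmul, show φ x = (l : F) by simp only [φ, e2]; field_simp]
    ring
  have hαφ : ∀ x, α x = φ x * α 1 := by
    intro x
    have key : ∀ u v : F, α (u ^ 2 - v ^ 2) = φ (u ^ 2 - v ^ 2) * α 1 := fun u v => by
      have e1 := hαadd (u ^ 2 - v ^ 2) (v ^ 2)
      have e2 := hφadd (u ^ 2 - v ^ 2) (v ^ 2)
      rw [sub_add_cancel, hαsq, hαsq] at e1
      rw [sub_add_cancel] at e2
      rw [e2] at e1
      linear_combination -e1
    rw [hF.eq_sq_sub x]
    exact key _ _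
  have hgg : g * g ∈ Hsub A := by
    refine mem_Hsub.2 ⟨mul_mem hgA hgA, by rw [mul_smul, hgZ, hgW], ?_⟩
    rw [mul_assoc, hgc, ← mul_assoc, hgc, mul_assoc]
  obtain ⟨G, hG⟩ := hHle hgg
  have hGv : ∀ z y w, g (g ((z, y, w) : V F)) = act (G.1 0 0) (G.1 0 1) (G.1 1 0) (G.1 1 1) (z, y, w) :=
    fun z y w => by rw [← psi_apply, hG]; rfl
  have hid : ∀ x, φ x = x := by
    refine hF.involutive_trivial φ hφadd hφmul fun x => ?_
    have e := congrArg (fun v : V F => v.2.1) (hGv 0 x 0)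
    have e' := congrArg (fun v : V F => v.2.1) (hGv 0 1 0)
    simp only [hform, act, mul_zero, add_zero, zero_add, mul_one] at e e'
    rw [← e'] at e
    have hne : β (β 1) ≠ 0 := hβne _ hβ1
    have hmul : β (β x) = φ (β x) * β 1 := by simp only [φ]; field_simp
    have hx' : β x = φ x * β 1 := by simp only [φ]; field_simp
    rw [hx', hφmul] at hmul
    have h1 : β (β 1) = φ (β 1) * β 1 := by simp only [φ]; field_simp
    rw [hx', hmul, h1] at e
    refine mul_right_cancel₀ (hne) ?_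
    rw [h1]
    linear_combination e
  have hg' : ∀ z y w, g ((z, y, w) : V F) = (γ 1 * w, β 1 * y, α 1 * z) := fun z y w => by
    have hb : β y = φ y * β 1 := by simp only [φ]; field_simp
    rw [hform, hγφ, hαφ, hb, hid, hid, hid]
    simp only [mul_comm]
  have hα1 : α 1 ≠ 0 := fun h => by
    have : g ((1, 0, 0) : V F) = g (0, 0, 0) := by rw [hg', hg', h]; simp
    exact one_ne_zero (Prod.ext_iff.1 (g.injective this)).1
  have hγ1 : γ 1 ≠ 0 := hγne 1 one_ne_zero
  have hrel : γ 1 * α 1 = β 1 ^ 2 := by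
    have e1 := hGv 1 0 0
    have e2 := hGv 0 1 0
    have e3 := hGv 0 0 1
    simp only [hg', act, mul_zero, mul_one, add_zero, zero_add, Prod.mk.injEq] at e1 e2 e3
    obtain ⟨a1, -, c1⟩ := e1
    obtain ⟨b3, -, d3⟩ := e3
    obtain ⟨-, m2, -⟩ := e2
    have hb : G.1 0 1 = 0 := by simpa using b3.symm
    have hc : G.1 1 0 = 0 := by simpa using c1.symm
    rw [hb, hc, mul_zero, add_zero] at m2
    have h2 : (β 1 ^ 2 - γ 1 * α 1) * (β 1 ^ 2 + γ 1 * α 1) = 0 := by
      have : (β 1 * β 1) ^ 2 = (γ 1 * α 1) * (α 1 * γ 1) := by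
        rw [m2, a1, d3]; ring
      linear_combination this
    rcases mul_eq_zero.1 h2 with h | h
    · linear_combination -h
    · exfalso
      refine hF.not_isSquare_neg_one ⟨β 1 / G.1 0 0, ?_⟩
      have hG0 : G.1 0 0 ≠ 0 := fun e => mul_ne_zero hγ1 hα1 (by rw [a1, e]; ring)
      field_simp [hG0]
      linear_combination -h + a1
  have hsqγ : IsSquare (γ 1) := by
    have hmem : g * ut (-β 1 / α 1) 1 * g * ut 1 1 * g ∈ A :=
      mul_mem (mul_mem (mul_mem (mul_mem hgA (hA.ut_mem _ _)) hgA) (hA.ut_mem _ _)) hgA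
    have hval : (g * ut (-β 1 / α 1) 1 * g * ut 1 1 * g : Equiv.Perm (V F)) ((1, 0, 0) : V F) =
        (γ 1 * α 1 ^ 2, 0, 0) := by
      show g (ut _ 1 (g (ut _ 1 (g _)))) = _
      simp only [hg', ut_apply, Units.val_one, Prod.mk.injEq, mul_zero, zero_add, add_zero, one_mul,
        mul_one, one_pow]
      refine ⟨?_, ?_, ?_⟩ <;> field_simp [hα1]
      all_goals first | linear_combination α 1 * hrel | linear_combination hrel | ring
    obtain ⟨r, hr⟩ := isSquare_value hA hF hsqA hmem hval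
    exact ⟨r / α 1, by rw [div_mul_div_comm, ← hr]; field_simp⟩
  obtain ⟨r, hr⟩ := hsqγ
  have hr0 : r ≠ 0 := fun h => hγ1 (by rw [hr, h, mul_zero])
  have hrt : 0 * 0 - r * (β 1 / r) ≠ 0 := by simpa [hr0] using hβ1
  have hgpsi : psi (mat 0 r (β 1 / r) 0 hrt) = g := by
    refine Equiv.ext fun ⟨z, y, w⟩ => ?_
    rw [psi_mat, hg', hr]
    simp only [act, Prod.mk.injEq]
    refine ⟨by ring, by field_simp [hr0]; ring, ?_⟩
    field_simp [hr0]
    rw [hr] at hrel
    linear_combination -z * hrel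
  refine ⟨?_, hHle, r, β 1 / r, hrt, by rw [hgpsi, hgZ]⟩
  -- Bruhat
  have hdd : ∀ (a d : F) (h : a * d - 0 * 0 ≠ 0), psi (mat a 0 0 d h) ∈ A := by
    intro a d h
    have ha : a ≠ 0 ∧ d ≠ 0 := by simpa [mul_eq_zero] using h
    convert mul_mem (hA.ut_mem 0 (Units.mk0 d ha.2))
      (mem_Hsub.1 (hdiag a (by simpa using ha.1))).1 using 1
    refine Equiv.ext fun v => ?_
    rw [Equiv.Perm.mul_apply, psi_mat, psi_mat, ut_apply]
    simp [act]
    ring_nf
  rintro _ ⟨M, rfl⟩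
  have hdet : M.1 0 0 * M.1 1 1 - M.1 0 1 * M.1 1 0 ≠ 0 := by
    rw [← Matrix.det_fin_two]; exact Matrix.GeneralLinearGroup.det_ne_zero M
  by_cases hc : M.1 1 0 = 0
  · have had : M.1 0 0 ≠ 0 ∧ M.1 1 1 ≠ 0 := by simpa [hc, mul_eq_zero] using hdet
    convert mul_mem (hdd (M.1 0 0) (M.1 1 1) (by simpa using mul_ne_zero had.1 had.2))
      (hA.ut_mem (M.1 0 1 / M.1 0 0) 1) using 1
    refine Equiv.ext fun v => ?_
    rw [Equiv.Perm.mul_apply, psi_mat, psi_apply, ut, psi_mat, act_act, hc]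
    congr 1 <;> simp [mul_div_cancel₀ _ had.1]
  · set x : F := M.1 0 1 - M.1 0 0 * M.1 1 1 / M.1 1 0 with hx
    have hx0 : x ≠ 0 := fun h => hdet (by
      rw [hx] at h; field_simp at h; linear_combination -h)
    have ht0 : β 1 / r ≠ 0 := div_ne_zero hβ1 hr0
    convert mul_mem (mul_mem (mul_mem (hA.ut_mem (M.1 0 0 / M.1 1 0) 1)
      (hdd (x / r) (M.1 1 0 / (β 1 / r))
        (by simpa using mul_ne_zero (div_ne_zero hx0 hr0) (div_ne_zero hc ht0))))
      (hgpsi ▸ hgA)) (hA.ut_mem (M.1 1 1 / M.1 1 0) 1) using 1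
    refine Equiv.ext fun v => ?_
    rw [psi_apply]
    simp only [Equiv.Perm.mul_apply, psi_mat, ut, act_act]
    congr 1 <;> simp only [hx, Units.val_one] <;> field_simp [hc, hr0, hβ1] <;> ring

/-- `A` is the image of `GL₂`. -/
theorem eq_range (hW : (axW : Set (V F)) ∈ orb A) : (psi : GL (Fin 2) F →* _).range = A := by
  classical
  obtain ⟨hle, hH, r, t, hrt, hw⟩ := range_le hA hF hW
  set A0 : Subgroup (Equiv.Perm (V F)) := (psi : GL (Fin 2) F →* _).range with hA0
  have hB : Bsub A ≤ A0 := fun a ha => by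
    obtain ⟨c, hc⟩ := decomp hA hF ha
    rw [← mul_inv_cancel_left (ut c 1) a]
    exact mul_mem (ut_mem_range _ _) (hH hc)
  have hwA : psi (mat 0 r t 0 hrt) ∈ A0 := ⟨_, rfl⟩
  -- the orbit of the axis under `A0`
  have hO : MulAction.orbit A0 (axZ : Set (V F)) =
      insert (axZ : Set (V F)) (Set.range fun b : F => ut b 1 • (axW : Set (V F))) := by
    ext S
    constructor
    · rintro ⟨⟨_, M, rfl⟩, rfl⟩
      show psi M • (axZ : Set (V F)) ∈ _
      by_cases hc : M.1 1 0 = 0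
      · left
        refine Set.eq_of_subset_of_ncard_le ?_ (by rw [Set.ncard_smul_set]) (Set.toFinite _)
        rintro _ ⟨v, hv, rfl⟩
        show psi M v ∈ axZ
        exact ⟨by simp [psi_apply, act, hc, hv.1, hv.2], by simp [psi_apply, act, hc, hv.1, hv.2]⟩
      · right
        refine ⟨M.1 0 0 / M.1 1 0, ?_⟩
        show ut (M.1 0 0 / M.1 1 0) 1 • (axW : Set (V F)) = psi M • axZ
        refine (Set.eq_of_subset_of_ncard_le ?_
          (by rw [Set.ncard_smul_set, Set.ncard_smul_set, ncard_axW, ncard_axZ]) (Set.toFinite _)).symm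
        rintro _ ⟨v, hv, rfl⟩
        refine ⟨(0, 0, M.1 1 0 ^ 2 * v.1), ⟨rfl, rfl⟩, ?_⟩
        show ut _ 1 _ = psi M v
        simp only [psi_apply, ut_apply, act, hv.1, hv.2, Units.val_one, mul_zero, mul_one, one_mul,
          add_zero, zero_add, one_pow, Prod.mk.injEq, and_true]
        refine ⟨?_, ?_⟩ <;> field_simp
    · rintro (rfl | ⟨b, rfl⟩)
      · exact MulAction.mem_orbit_self _
      · exact ⟨⟨_, mul_mem (ut_mem_range b 1) hwA⟩, by
          show (ut b 1 * psi (mat 0 r t 0 hrt)) • (axZ : Set (V F)) = _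
          rw [mul_smul, hw]⟩
  have hOc : (MulAction.orbit A0 (axZ : Set (V F))).ncard = Nat.card F + 1 := by
    rw [hO, Set.ncard_insert_of_notMem ?_ (Set.toFinite _), Set.ncard_range_of_injective ?_]
    · intro b b' h
      simp only at h
      have h1 := congrArg (fun W => ut (-b') 1 • W) h
      simp only [← mul_smul, ut_mul, Units.val_one, mul_one, add_neg_cancel, ut_zero_one, one_smul] at h1
      have := free_ut hA hF hW axW_ne_axZ h1
      linear_combination this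
    · rintro ⟨b, hb⟩
      simp only at hb
      have h' : ut b 1 • (axW : Set (V F)) = ut b 1 • axZ :=
        hb.trans (mem_Bsub.1 (ut_mem_Bsub hA hF b 1)).2.symm
      exact axW_ne_axZ (MulAction.injective _ h')
  have hsub : MulAction.orbit A0 (axZ : Set (V F)) ⊆ orb A := by
    rintro _ ⟨⟨a, ha⟩, rfl⟩; exact ⟨a, hle ha, rfl⟩
  have hst : A0 ⊓ MulAction.stabilizer (Equiv.Perm (V F)) (axZ : Set (V F)) = Bsub A :=
    le_antisymm (inf_le_inf_right _ hle) (le_inf hB inf_le_right)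
  have hc0 := ncard_orbit_mul A0 (axZ : Set (V F))
  rw [hst, hOc] at hc0
  have hd : Nat.card A0 ∣ Nat.card A := Subgroup.card_dvd_of_le hle
  rw [card_A hA hF, ← card_Bsub hA hF, ← hc0] at hd
  have hk := Nat.dvd_of_mul_dvd_mul_right Nat.card_pos hd
  obtain ⟨j, hj⟩ := card_dvd_orb_sub_one hA hF
  have hk1 := orb_pos hA hF
  have hob := orb_bound hA hF
  have hge := Set.ncard_le_ncard hsub (Set.toFinite _)
  rw [hOc] at hge
  have h3 := hF.one_lt_card
  set q := Nat.card F with hq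
  set k := (orb A).ncard with hkdef
  have hkj : k = 1 + q * j := by omega
  have hkeq : k = q + 1 := by
    obtain ⟨s, hs⟩ := hk
    have hj2 : j ≤ q + 1 := by
      by_contra h
      have h1 : 1 + q * (q + 2) ≤ k := by
        rw [hkj]; have := Nat.mul_le_mul_left q (show q + 2 ≤ j by omega); omega
      have h2 : (1 + q * (q + 2)) * (q - 1) ≤ k * (q - 1) := Nat.mul_le_mul_right _ h1
      obtain ⟨u, hu⟩ : ∃ u, q = u + 3 := ⟨q - 3, by omega⟩
      rw [hu, show u + 3 - 1 = u + 2 by omega] at h2 hob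
      nlinarith
    -- `q ≡ -1`
    have h1 : (q + 1) ∣ j - 1 := by
      refine ⟨j - s, ?_⟩
      have h2 : q * j + j = (q + 1) * j := by ring
      rw [Nat.mul_sub]
      omega
    obtain ⟨u, hu⟩ := h1
    rcases Nat.eq_zero_or_pos u with rfl | hu0
    · rcases Nat.eq_zero_or_pos j with rfl | hj0
      · omega
      · rw [show j = 1 by omega] at hkj; omega
    · have : q + 1 ≤ (q + 1) * u := Nat.le_mul_of_pos_right _ hu0
      omega
  refine le_antisymm hle fun a ha => ?_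
  have hO' : MulAction.orbit A0 (axZ : Set (V F)) = orb A :=
    Set.eq_of_subset_of_ncard_le hsub (by rw [hOc, ← hkeq]) (Set.toFinite _)
  have hm : a • (axZ : Set (V F)) ∈ MulAction.orbit A0 (axZ : Set (V F)) := hO' ▸ ⟨a, ha, rfl⟩
  obtain ⟨⟨a0, ha0⟩, hag⟩ := hm
  have : a0⁻¹ * a ∈ Bsub A := mem_Bsub.2 ⟨mul_mem (inv_mem (hle ha0)) ha, by
    rw [mul_smul, inv_smul_eq_iff]; exact hag.symm⟩
  rw [← mul_inv_cancel_left a0 a]
  exact mul_mem ha0 (hB this)

/-- **A Levi group is a copy of `GL₂` in the symmetric square.** -/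
theorem exists_hom : ∃ f : GL (Fin 2) F →* Equiv.Perm (V F), f.range = A ∧
    f.ker = (psi : GL (Fin 2) F →* _).ker := by
  obtain ⟨τ, hA', hW⟩ := exists_model hA hF
  have h := eq_range hA' hF hW
  refine ⟨(MulAut.conj τ).symm.toMonoidHom.comp psi, ?_, ?_⟩
  · rw [MonoidHom.range_comp, h, Subgroup.map_map]
    rw [show (MulAut.conj τ).symm.toMonoidHom.comp (MulAut.conj τ).toMonoidHom = MonoidHom.id _ from
      MonoidHom.ext (MulAut.conj τ).symm_apply_apply]
    exact Subgroup.map_id A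
  · exact MonoidHom.ker_comp_of_injective _ _ (MulAut.conj τ).symm.injective

end Cfsg.Agent.SympLevi
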