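import Cfsg.Agent.Lib.SympLevi.Linear
import Mathlib.GroupTheory.SpecificGroups.Cyclic

/-!
# The image of the symmetric square (owner: helper67)

`nonempty_equiv_of_levi`: a `Levi` group is `PGL₂ × C`, `C` cyclic of order `(q - 1) / 2`.
-/

set_option autoImplicit false
set_option linter.unusedSectionVars false

namespace Cfsg.Agent.SympLevi

variable {F : Type*} [Field F] [Fintype F] {p n : ℕ}

/-- The map onto the projective group and the squares. -/
noncomputable def theta (F : Type*) [Field F] :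
    GL (Fin 2) F →* Matrix.ProjGenLinGroup (Fin 2) F × (powMonoidHom 2 : Fˣ →* Fˣ).range :=
  Matrix.ProjGenLinGroup.mk.prod
    ((powMonoidHom 2 : Fˣ →* Fˣ).rangeRestrict.comp Matrix.GeneralLinearGroup.det)

theorem ker_theta (hF : FieldHyp F p n) : (theta F).ker = (psi : GL (Fin 2) F →* _).ker := by
  ext g
  simp only [MonoidHom.mem_ker, psi_eq_one, theta, MonoidHom.prod_apply, Prod.mk_eq_one,
    Matrix.ProjGenLinGroup.mk_eq_one, MonoidHom.coe_comp, Function.comp_apply]
  constructor
  · rintro ⟨hc, hd⟩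
    rw [Matrix.GeneralLinearGroup.center_eq_range_scalar] at hc
    obtain ⟨u, rfl⟩ := hc
    have hd' := congrArg (fun x : (powMonoidHom 2 : Fˣ →* Fˣ).range => ((x : Fˣ) : F)) hd
    simp only [MonoidHom.coe_rangeRestrict, powMonoidHom_apply, Units.val_pow_eq_pow_val,
      OneMemClass.coe_one, Units.val_one, Matrix.GeneralLinearGroup.val_det_apply,
      Matrix.GeneralLinearGroup.coe_scalar, Matrix.scalar_apply, Matrix.det_diagonal,
      Finset.prod_const, Finset.card_univ, Fintype.card_fin] at hd'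
    rcases sq_eq_one_iff.1 hd' with h | h
    · rcases sq_eq_one_iff.1 h with e | e
      · left; ext i j; fin_cases i <;> fin_cases j <;> simp [e]
      · right; ext i j; fin_cases i <;> fin_cases j <;> simp [e]
    · exact absurd ⟨(u : F), by rw [← h, sq]⟩ hF.not_isSquare_neg_one
  · intro h
    constructor
    · refine Subgroup.mem_center_iff.2 fun x => Units.ext ?_
      rcases h with h | h <;> simp [h]
    · refine Subtype.ext (Units.ext ?_)
      rcases h with h | h <;>
        simp [h, Matrix.det_fin_two, Matrix.GeneralLinearGroup.val_det_apply]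

theorem theta_surjective (hF : FieldHyp F p n) : Function.Surjective (theta F) := by
  rintro ⟨P, ⟨_, c, rfl⟩⟩
  obtain ⟨g, rfl⟩ := Matrix.ProjGenLinGroup.mk_surjective P
  obtain ⟨y, hy0, hy⟩ : ∃ y : F, y ≠ 0 ∧ (y * y) ^ 2 = ((c : F) / (g.det : F)) ^ 2 := by
    set x : F := (c : F) / (g.det : F) with hx
    have hx0 : x ≠ 0 := div_ne_zero c.ne_zero g.det.ne_zero
    rcases hF.isSquare_or_neg x with ⟨y, hy⟩ | ⟨y, hy⟩
    · exact ⟨y, fun h => hx0 (by rw [hy, h, mul_zero]), by rw [hy]⟩
    · exact ⟨y, fun h => hx0 (by rw [← neg_eq_zero, hy, h, mul_zero]), by rw [← hy, neg_sq]⟩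
  refine ⟨g * Matrix.GeneralLinearGroup.scalar (Fin 2) (Units.mk0 y hy0), ?_⟩
  simp only [theta, MonoidHom.prod_apply, map_mul, Matrix.ProjGenLinGroup.mk_scalar,
    MonoidHom.coe_comp, Function.comp_apply]
  refine Prod.ext (by simp) (Subtype.ext (Units.ext ?_))
  simp only [Prod.snd_mul, Subgroup.coe_mul, MonoidHom.coe_rangeRestrict, powMonoidHom_apply, Units.val_mul,
    Units.val_pow_eq_pow_val,
    show ∀ u : Fˣ, ((Matrix.GeneralLinearGroup.scalar (Fin 2) u).det : F) =
      (Matrix.GeneralLinearGroup.scalar (Fin 2) u : Matrix (Fin 2) (Fin 2) F).det from fun u => rfl,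
    Matrix.GeneralLinearGroup.coe_scalar, Matrix.scalar_apply, Matrix.det_diagonal,
    Finset.prod_const, Finset.card_univ, Fintype.card_fin, Units.val_mk0]
  rw [sq y, hy, div_pow, mul_div_cancel₀ _ (pow_ne_zero 2 g.det.ne_zero)]

/-- The squares are cyclic of order `(q - 1) / 2`. -/
theorem nonempty_squares (hF : FieldHyp F p n) :
    Nonempty ((powMonoidHom 2 : Fˣ →* Fˣ).range ≃* Multiplicative (ZMod ((p ^ n - 1) / 2))) := by
  classical
  have hker : Nat.card ((powMonoidHom 2 : Fˣ →* Fˣ).ker) = 2 := by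
    have : ((powMonoidHom 2 : Fˣ →* Fˣ).ker : Set Fˣ) = {1, -1} := by
      ext u
      simp only [SetLike.mem_coe, MonoidHom.mem_ker, powMonoidHom_apply, Set.mem_insert_iff,
        Set.mem_singleton_iff, Units.ext_iff, Units.val_pow_eq_pow_val, Units.val_one, Units.val_neg]
      exact sq_eq_one_iff
    rw [← SetLike.coe_sort_coe, Nat.card_coe_set_eq, this, Set.ncard_pair hF.neg_one_ne.symm]
  have h := Subgroup.card_eq_card_quotient_mul_card_subgroup (powMonoidHom 2 : Fˣ →* Fˣ).ker
  rw [hker, Nat.card_congr (QuotientGroup.quotientKerEquivRange _).toEquiv, Nat.card_units, hF.card] at h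
  rw [show (p ^ n - 1) / 2 = Nat.card (powMonoidHom 2 : Fˣ →* Fˣ).range by omega]
  exact ⟨(zmodCyclicMulEquiv (inferInstance : IsCyclic _)).symm⟩

/-- **Levi groups.** -/
theorem nonempty_equiv_of_levi {A : Subgroup (Equiv.Perm (V F))} (hA : Levi A) (hF : FieldHyp F p n) :
    Nonempty (A ≃* (Matrix.ProjGenLinGroup (Fin 2) F × Multiplicative (ZMod ((p ^ n - 1) / 2)))) := by
  obtain ⟨f, hf, hker⟩ := exists_hom hA hF
  obtain ⟨e⟩ := nonempty_squares hF
  exact ⟨(MulEquiv.subgroupCongr hf.symm).trans ((QuotientGroup.quotientKerEquivRange f).symm.trans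
    ((QuotientGroup.quotientMulEquivOfEq (hker.trans (ker_theta hF).symm)).trans
      ((QuotientGroup.quotientKerEquivOfSurjective _ (theta_surjective hF)).trans
        ((MulEquiv.refl _).prodCongr e))))⟩

end Cfsg.Agent.SympLevi
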