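import Cfsg.Agent.Lib.SympLevi.Chart
import Cfsg.Agent.Lib.SympLevi.Shape
import Cfsg.Agent.Lib.Solvable.Gaschutz

/-!
# The normaliser of the Siegel group inside a group of `PSp₄` type (owner: helper67)

`exists_complement`: the theorem behind S3324.
-/

set_option autoImplicit false
set_option linter.unusedSectionVars false

namespace Cfsg.Agent.SympLevi

open Pointwise

variable {F : Type*} [Field F] [Fintype F] {p n : ℕ}

/-- A `ut b l` of order dividing `p` has `l = 1`. -/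
theorem eq_one_of_ut_pow (hF : FieldHyp F p n) {b : F} {l : Fˣ} (h : ut b l ^ p = 1) : l = 1 := by
  haveI := hF.char
  haveI := Fact.mk hF.prime
  have hpow : ∀ i : ℕ, ∃ c, ut b l ^ i = ut c (l ^ i) := by
    intro i
    induction i with
    | zero => exact ⟨0, by rw [pow_zero, pow_zero, ut_zero_one]⟩
    | succ i ih => obtain ⟨c, hc⟩ := ih; exact ⟨_, by rw [pow_succ, hc, ut_mul, pow_succ]⟩
  obtain ⟨c, hc⟩ := hpow p
  rw [hc, ← ut_zero_one] at h
  have hl : ((l : F) - 1) ^ p = 0 := by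
    rw [sub_pow_char, one_pow, sub_eq_zero, ← Units.val_pow_eq_pow_val, (ut_inj h).2, Units.val_one]
  exact Units.ext (sub_eq_zero.1 (pow_eq_zero_iff hF.prime.ne_zero |>.1 hl))

theorem ut_pow_char (hF : FieldHyp F p n) (b : F) : ut b 1 ^ p = 1 := by
  haveI := hF.char
  rw [ut_pow, CharP.cast_eq_zero F p, zero_mul, ut_zero_one]

/-- Conjugation transports centralisers. -/
noncomputable def centralizerConj {H : Type*} [Group H] (g x y : H) (h : g * x * g⁻¹ = y) :
    ↥(Subgroup.centralizer ({x} : Set H)) ≃* ↥(Subgroup.centralizer ({y} : Set H)) :=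
  ((MulAut.conj g).subgroupMap _).trans (MulEquiv.subgroupCongr (by
    ext w
    simp only [Subgroup.mem_map, Subgroup.mem_centralizer_singleton_iff]
    constructor
    · rintro ⟨a, ha, rfl⟩
      show g * a * g⁻¹ * y = y * (g * a * g⁻¹)
      rw [← h]
      calc g * a * g⁻¹ * (g * x * g⁻¹) = g * (a * x) * g⁻¹ := by group
        _ = g * x * g⁻¹ * (g * a * g⁻¹) := by rw [ha]; group
    · intro hw
      refine ⟨g⁻¹ * w * g, ?_, ?_⟩
      · rw [show x = g⁻¹ * y * g by rw [← h]; group]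
        calc g⁻¹ * w * g * (g⁻¹ * y * g) = g⁻¹ * (w * y) * g := by group
          _ = g⁻¹ * y * g * (g⁻¹ * w * g) := by rw [hw]; group
      · show g * (g⁻¹ * w * g) * g⁻¹ = w
        group))

/-- The chart: after conjugation the centraliser is that of a root element, `P` goes to `uSyl`. -/
theorem exists_chart {G : Type*} [Group G] [Finite G] [Fact p.Prime] (hF : FieldHyp F p n)
    (x : Cfsg.PSp 2 F) (hx : orderOf x = p) (Px : Sylow p (Cfsg.PSp 2 F))
    (hxP : x ∈ (Px : Subgroup (Cfsg.PSp 2 F)))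
    (hxc : ∀ y ∈ (Px : Subgroup (Cfsg.PSp 2 F)), y * x = x * y) (α : G)
    (e : ↥(Subgroup.centralizer ({α} : Set G)) ≃* ↥(Subgroup.centralizer ({x} : Set (Cfsg.PSp 2 F))))
    (P : Sylow p G) (hP : (P : Subgroup G) ≤ Subgroup.centralizer ({α} : Set G)) :
    ∃ (z : F) (_ : z ≠ 0) (c : ↥(Subgroup.centralizer ({α} : Set G)) ≃*
        ↥(Subgroup.centralizer ({sieg (Multiplicative.ofAdd ((z, 0, 0) : V F))} : Set (Cfsg.PSp 2 F)))),
      ∀ a : ↥(Subgroup.centralizer ({α} : Set G)), (a : G) ∈ P ↔ (c a : Cfsg.PSp 2 F) ∈ uSyl F := by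
  obtain ⟨S0, hS0⟩ := exists_sylow hF
  obtain ⟨g, hg⟩ := MulAction.exists_smul_eq (Cfsg.PSp 2 F) Px S0
  have hgm : ∀ w, w ∈ uSyl F ↔ g⁻¹ * w * g ∈ (Px : Subgroup (Cfsg.PSp 2 F)) := fun w => by
    rw [← hS0, ← hg, Sylow.smul_def, Sylow.pointwise_smul_def, Subgroup.mem_pointwise_smul_iff_inv_smul_mem]
    simp [MulAut.smul_def]
  obtain ⟨z, hz⟩ := center_uSyl hF (X := g * x * g⁻¹) ((hgm _).2 (by
      rw [show g⁻¹ * (g * x * g⁻¹) * g = x by group]; exact hxP)) (fun Y hY => by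
    have h := hxc _ ((hgm Y).1 hY)
    calc Y * (g * x * g⁻¹) = g * (g⁻¹ * Y * g * x) * g⁻¹ := by group
      _ = g * x * g⁻¹ * Y := by rw [h]; group)
  have hz0 : z ≠ 0 := by
    intro h
    rw [h, show ((0, 0, 0) : V F) = 0 from rfl, ofAdd_zero, map_one, mul_inv_eq_one, mul_eq_left] at hz
    rw [hz, orderOf_one] at hx
    exact hF.prime.ne_one hx.symm
  set C := Subgroup.centralizer ({sieg (Multiplicative.ofAdd ((z, 0, 0) : V F))} : Set (Cfsg.PSp 2 F))
  let c0 : ↥(Subgroup.centralizer ({α} : Set G)) ≃* ↥C := e.trans (centralizerConj g x _ hz)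
  -- two Sylow subgroups of the centraliser
  have hUC : uSyl F ≤ C := fun Y hY =>
    Subgroup.mem_centralizer_singleton_iff.2 (uSyl_comm_root z hY)
  let T1 : Sylow p C := S0.subtype (hS0.le.trans hUC)
  let PC : Sylow p (Subgroup.centralizer ({α} : Set G)) := P.subtype hP
  have hT2 : ¬ p ∣ ((PC : Subgroup _).map (c0 : ↥(Subgroup.centralizer ({α} : Set G)) →* C)).index := by
    rw [Subgroup.index_map_equiv]
    exact PC.not_dvd_index
  let T2 : Sylow p C := (PC.2.map (c0 : ↥(Subgroup.centralizer ({α} : Set G)) →* C)).toSylow hT2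
  obtain ⟨h, hh⟩ := MulAction.exists_smul_eq C T2 T1
  refine ⟨z, hz0, c0.trans (MulAut.conj h), fun a => ?_⟩
  have e1 : ((c0.trans (MulAut.conj h)) a : Cfsg.PSp 2 F) ∈ uSyl F ↔
      (c0.trans (MulAut.conj h)) a ∈ (T1 : Subgroup C) := by
    rw [show (T1 : Subgroup C) = (S0 : Subgroup _).subgroupOf C from rfl, Subgroup.mem_subgroupOf, hS0]
  rw [e1, ← hh, Sylow.smul_def, Sylow.pointwise_smul_def, Subgroup.mem_pointwise_smul_iff_inv_smul_mem]
  simp only [MulAut.smul_def, MulEquiv.trans_apply, MulAut.inv_apply_self]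
  show (a : G) ∈ P ↔ c0 a ∈ (PC : Subgroup _).map (c0 : ↥(Subgroup.centralizer ({α} : Set G)) →* C)
  constructor
  · exact fun ha => ⟨a, Subgroup.mem_subgroupOf.2 ha, rfl⟩
  · rintro ⟨b, hb, e⟩
    rw [c0.injective e] at hb
    exact Subgroup.mem_subgroupOf.1 hb

/-- **The theorem.** -/
theorem exists_complement {G : Type*} [Group G] [Finite G] [Fact p.Prime] (hF : FieldHyp F p n)
    (α : G) (z0 : F) (hz0 : z0 ≠ 0)
    (c : ↥(Subgroup.centralizer ({α} : Set G)) ≃*
      ↥(Subgroup.centralizer ({sieg (Multiplicative.ofAdd ((z0, 0, 0) : V F))} : Set (Cfsg.PSp 2 F))))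
    (hb : ∀ z ∈ Subgroup.centralizer ({α} : Set G), z ≠ 1 →
      (∀ w ∈ Subgroup.centralizer ({α} : Set G), w * z = z * w) →
      Subgroup.centralizer ({z} : Set G) = Subgroup.centralizer ({α} : Set G))
    (hc : ∃ (u v : G) (Pu Pv : Sylow p G), orderOf u = p ∧ orderOf v = p ∧
      u ∈ (Pu : Subgroup G) ∧ (∀ y ∈ (Pu : Subgroup G), y * u = u * y) ∧
      v ∈ (Pv : Subgroup G) ∧ (∀ y ∈ (Pv : Subgroup G), y * v = v * y) ∧ ∀ g : G, g * u * g⁻¹ ≠ v)
    (P : Sylow p G) (hP : (P : Subgroup G) ≤ Subgroup.centralizer ({α} : Set G))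
    (hPc : ∀ a : ↥(Subgroup.centralizer ({α} : Set G)), (a : G) ∈ P ↔ (c a : Cfsg.PSp 2 F) ∈ uSyl F)
    (M : Subgroup G) (hMP : M ≤ P) (hMc : IsMulCommutative ↥M) (hMcard : Nat.card ↥M = p ^ (3 * n))
    (hnc : ∃ Q R : Sylow p ↥(Subgroup.normalizer (M : Set G)), Q ≠ R) :
    ∃ J : Subgroup G, J ≤ Subgroup.normalizer (M : Set G) ∧ M ⊔ J = Subgroup.normalizer (M : Set G) ∧
      M ⊓ J = ⊥ ∧ Nonempty (↥J ≃* (Matrix.ProjGenLinGroup (Fin 2) F ×
        Multiplicative (ZMod ((p ^ n - 1) / 2)))) := by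
  classical
  let Cα : Subgroup G := Subgroup.centralizer ({α} : Set G)
  let C1 : Subgroup (Cfsg.PSp 2 F) := Subgroup.centralizer ({sieg (Multiplicative.ofAdd ((z0, 0, 0) : V F))} : Set (Cfsg.PSp 2 F))
  set N := Subgroup.normalizer (M : Set G) with hN
  have hUC : uSyl F ≤ C1 := fun Y hY =>
    Subgroup.mem_centralizer_singleton_iff.2 (uSyl_comm_root z0 hY)
  -- the embedding of the Siegel group
  let sC : Multiplicative (V F) →* C1 :=
    (sieg (F := F)).codRestrict C1 fun v => hUC (sieg_mem_uSyl v.toAdd)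
  let ι : Multiplicative (V F) →* G := (Cα.subtype.comp c.symm.toMonoidHom).comp sC
  have hι : Function.Injective ι := fun v w h => sieg_injective hF.two
    (congrArg Subtype.val (c.symm.injective (Subtype.ext h) : sC v = sC w))
  have hιC : ∀ v, ι v ∈ Cα := fun v => (c.symm (sC v)).2
  have hcι : ∀ v, (c ⟨ι v, hιC v⟩ : Cfsg.PSp 2 F) = sieg v := fun v => by
    have h : (⟨ι v, hιC v⟩ : Cα) = c.symm (sC v) := rfl
    rw [h, c.apply_symm_apply]; rfl
  let φ : Cα →* Cfsg.PSp 2 F := C1.subtype.comp c.toMonoidHom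
  have hφ : Function.Injective φ := C1.subtype_injective.comp c.injective
  have hφι : ∀ v, φ ⟨ι v, hιC v⟩ = sieg v := hcι
  have hback : ∀ (x : Cα) v, (c x : Cfsg.PSp 2 F) = sieg v → (x : G) = ι v := fun x v h =>
    congrArg Subtype.val (hφ (a₁ := x) (a₂ := ⟨ι v, hιC v⟩) (h.trans (hφι v).symm))
  have hpush : ∀ (x : Cα) u v, (x : G) * ι u * (x : G)⁻¹ = ι v ↔
      (c x : Cfsg.PSp 2 F) * sieg u * (c x : Cfsg.PSp 2 F)⁻¹ = sieg v := by
    intro x u v
    show _ ↔ φ x * sieg u * (φ x)⁻¹ = sieg v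
    rw [← hφι u, ← hφι v, ← map_inv, ← map_mul, ← map_mul, hφ.eq_iff, Subtype.ext_iff]
    rfl
  have hpushc : ∀ (x : Cα) u, (x : G) * ι u = ι u * (x : G) ↔
      (c x : Cfsg.PSp 2 F) * sieg u = sieg u * (c x : Cfsg.PSp 2 F) := by
    intro x u
    show _ ↔ φ x * sieg u = sieg u * φ x
    rw [← hφι u, ← map_mul, ← map_mul, hφ.eq_iff, Subtype.ext_iff]
    rfl
  have hrange : M = ι.range := by
    set MC : Subgroup Cα := M.subgroupOf Cα with hMC
    let f : Cα →* Cfsg.PSp 2 F := C1.subtype.comp c.toMonoidHom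
    have hf : Function.Injective f := C1.subtype_injective.comp c.injective
    have hT := eq_range_sieg hF (T := MC.map f)
      (by rintro _ ⟨a, ha, rfl⟩; exact (hPc a).1 (hMP (Subgroup.mem_subgroupOf.1 ha)))
      (by
        rintro _ ⟨a, ha, rfl⟩ _ ⟨b, hb', rfl⟩
        rw [← map_mul, ← map_mul]
        refine congrArg f (Subtype.ext ?_)
        exact congrArg (fun t : M => (t : G)) (hMc.is_comm.comm (⟨a, ha⟩ : M) ⟨b, hb'⟩))
      (by
        rw [← Nat.card_congr (MC.equivMapOfInjective f hf).toEquiv,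
          Nat.card_congr (Subgroup.subgroupOfEquivOfLe (hMP.trans hP)).toEquiv, hMcard])
    ext a
    constructor
    · intro ha
      have hm : f ⟨a, hP (hMP ha)⟩ ∈ MC.map f :=
        Subgroup.mem_map_of_mem f (Subgroup.mem_subgroupOf.2 ha)
      rw [hT] at hm
      obtain ⟨v, hv⟩ := hm
      refine ⟨v, ?_⟩
      rw [← hcι v] at hv
      exact congrArg Subtype.val (hf hv)
    · rintro ⟨v, rfl⟩
      have hm : sieg v ∈ MC.map f := hT ▸ ⟨v, rfl⟩
      obtain ⟨a, ha, hav⟩ := hm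
      rw [← hcι v] at hav
      rw [hf hav] at ha
      exact Subgroup.mem_subgroupOf.1 ha
  -- the action
  let η : Multiplicative (V F) ≃* M :=
    (MonoidHom.ofInjective hι).trans (MulEquiv.subgroupCongr hrange.symm)
  let toPerm : MulAut (Multiplicative (V F)) →* Equiv.Perm (V F) :=
    MonoidHom.mk' (fun φ => Multiplicative.toAdd.permCongr φ.toEquiv) fun φ ψ => Equiv.ext fun v => rfl
  let ρ : N →* Equiv.Perm (V F) :=
    toPerm.comp ((MulAut.congr η.symm).toMonoidHom.comp M.normalizerMonoidHom)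
  have hρ : ∀ (a : N) (v : V F),
      ι (Multiplicative.ofAdd (ρ a v)) = a * ι (Multiplicative.ofAdd v) * (a : G)⁻¹ := by
    intro a v
    have h : η (η.symm (M.normalizerMonoidHom a (η (Multiplicative.ofAdd v)))) =
        M.normalizerMonoidHom a (η (Multiplicative.ofAdd v)) := η.apply_symm_apply _
    exact congrArg Subtype.val h
  have hadd : ∀ (a : N) (v w : V F), ρ a (v + w) = ρ a v + ρ a w := by
    intro a v w
    refine Multiplicative.ofAdd.injective (hι ?_)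
    rw [ofAdd_add, map_mul, hρ, hρ, hρ, ofAdd_add, map_mul]
    group
  -- elements of the normaliser inside the centraliser
  have hform : ∀ (a : N) (ha : (a : G) ∈ Cα),
      ∃ (A : GL (Fin 2) F) (w : V F), (c ⟨a, ha⟩ : Cfsg.PSp 2 F) = lev A * sieg (Multiplicative.ofAdd w) ∧
        ρ a = psi A := by
    intro a ha
    have key : ∀ v, (c ⟨a, ha⟩ : Cfsg.PSp 2 F) * sieg (Multiplicative.ofAdd v) *
        (c ⟨a, ha⟩ : Cfsg.PSp 2 F)⁻¹ = sieg (Multiplicative.ofAdd (ρ a v)) := by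
      exact fun v => (hpush ⟨a, ha⟩ _ _).1 (hρ a v).symm
    obtain ⟨A, w, hA⟩ := normal_form hF fun v => ⟨_, key v⟩
    refine ⟨A, w, hA, Equiv.ext fun v => ?_⟩
    have h1 := key v
    rw [hA, conj_of_form] at h1
    exact (Multiplicative.ofAdd.injective (sieg_injective hF.two h1)).symm
  -- the root group is central in the centraliser
  have hroot : ∀ z : F, z ≠ 0 →
      Subgroup.centralizer ({ι (Multiplicative.ofAdd ((z, 0, 0) : V F))} : Set G) = Cα := by
    intro z hz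
    refine hb _ (hιC _) ?_ fun w hw => ?_
    · intro h
      exact hz (Prod.ext_iff.1 (Multiplicative.ofAdd.injective
        ((hι (h.trans (map_one ι).symm)).trans ofAdd_zero.symm))).1
    · have h1 := comm_root hF hz0 (Subgroup.mem_centralizer_singleton_iff.1 (c ⟨w, hw⟩).2) z
      exact (hpushc ⟨w, hw⟩ _).2 h1
  have hfix : ∀ (a : N) (z : F), z ≠ 0 → ρ a ((z, 0, 0) : V F) = (z, 0, 0) → (a : G) ∈ Cα := by
    intro a z hz h
    rw [← hroot z hz, Subgroup.mem_centralizer_singleton_iff]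
    have h1 := hρ a (z, 0, 0)
    rw [h] at h1
    exact (mul_inv_eq_iff_eq_mul.1 h1.symm)
  have hker : ∀ a : N, ρ a = 1 ↔ (a : G) ∈ M := by
    intro a
    constructor
    · intro h
      have haC := hfix a 1 one_ne_zero (by rw [h]; rfl)
      obtain ⟨v, hv⟩ := cent_sieg hF (X := (c ⟨a, haC⟩ : Cfsg.PSp 2 F)) fun v => by
        have h1 := hρ a v
        rw [h, Equiv.Perm.one_apply, eq_mul_inv_iff_mul_eq] at h1
        exact (hpushc ⟨a, haC⟩ _).1 h1.symm
      rw [hrange]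
      exact ⟨_, (hback ⟨a, haC⟩ _ hv).symm⟩
    · intro ha
      refine Equiv.ext fun v => Multiplicative.ofAdd.injective (hι ?_)
      rw [hρ, Equiv.Perm.one_apply]
      obtain ⟨u, hu⟩ := hrange ▸ ha
      rw [← hu, ← map_inv, ← map_mul, ← map_mul]
      congr 1
      rw [mul_comm u, mul_inv_cancel_right]
  -- lifting `ut b l`
  have hnorm : ∀ (a : G) (f : Equiv.Perm (V F)),
      (∀ v, a * ι (Multiplicative.ofAdd v) * a⁻¹ = ι (Multiplicative.ofAdd (f v))) → a ∈ N := by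
    intro a f hf
    rw [hN, hrange, Subgroup.mem_normalizer_iff]
    intro y
    constructor
    · rintro ⟨v, rfl⟩
      exact ⟨_, (hf v.toAdd).symm⟩
    · rintro ⟨u, hu⟩
      refine ⟨Multiplicative.ofAdd (f⁻¹ u.toAdd), ?_⟩
      have h1 := hf (f⁻¹ u.toAdd)
      rw [show f (f⁻¹ u.toAdd) = u.toAdd from f.apply_symm_apply _, ofAdd_toAdd, hu] at h1
      exact mul_left_cancel (mul_right_cancel h1)
  have hlev : ∀ (b : F) (l : Fˣ) (w : Cα), (c w : Cfsg.PSp 2 F) = lev (utM b l) →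
      ∃ hw : (w : G) ∈ N, ρ ⟨w, hw⟩ = ut b l := by
    intro b l w hw
    have key : ∀ v, (w : G) * ι (Multiplicative.ofAdd v) * (w : G)⁻¹ =
        ι (Multiplicative.ofAdd (ut b l v)) := by
      intro v
      have h1 : c (w * ⟨ι (Multiplicative.ofAdd v), hιC _⟩ * w⁻¹) =
          c ⟨ι (Multiplicative.ofAdd (ut b l v)), hιC _⟩ := by
        refine Subtype.ext ?_
        rw [map_mul, map_mul, map_inv, Subgroup.coe_mul, Subgroup.coe_mul, InvMemClass.coe_inv, hcι,
          hcι, hw, lev_conj_sieg, psi_utM]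
      exact congrArg Subtype.val (c.injective h1)
    exact ⟨hnorm _ _ key, Equiv.ext fun v => Multiplicative.ofAdd.injective
      (hι ((hρ _ v).trans (key v)))⟩
  have hlevC : ∀ b l, lev (utM b l) ∈ C1 := fun b l =>
    Subgroup.mem_centralizer_singleton_iff.2 (lev_comm_root b l z0)
  set A : Subgroup (Equiv.Perm (V F)) := ρ.range with hA
  have hutA : ∀ b l, ut b l ∈ A := fun b l => by
    obtain ⟨hw, h⟩ := hlev b l (c.symm ⟨_, hlevC b l⟩) (by rw [c.apply_symm_apply])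
    exact ⟨_, h⟩
  have hstab : ∀ a ∈ A, ∀ z : F, z ≠ 0 → a ((z, 0, 0) : V F) = (z, 0, 0) → ∃ b l, a = ut b l := by
    rintro _ ⟨a, rfl⟩ z hz h
    obtain ⟨B, w, -, hB⟩ := hform a (hfix a z hz h)
    rw [hB] at h ⊢
    exact psi_fix B hz h
  -- the Sylow subgroup
  have hPN : (P : Subgroup G) ≤ N := by
    intro a ha
    have hm := (hPc ⟨a, hP ha⟩).1 ha
    obtain ⟨b, w, hbw⟩ := mem_uSyl.1 hm
    refine hnorm a (ut b 1) fun v => ?_
    have h1 : c (⟨a, hP ha⟩ * ⟨ι (Multiplicative.ofAdd v), hιC _⟩ * ⟨a, hP ha⟩⁻¹) =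
        c ⟨ι (Multiplicative.ofAdd (ut b 1 v)), hιC _⟩ := by
      refine Subtype.ext ?_
      rw [map_mul, map_mul, map_inv, Subgroup.coe_mul, Subgroup.coe_mul, InvMemClass.coe_inv, hcι,
        hcι, hbw, conj_uSyl]
    exact congrArg Subtype.val (c.injective h1)
  have hPiff : ∀ a : N, (a : G) ∈ P ↔ ∃ b, ρ a = ut b 1 := by
    intro a
    constructor
    · intro ha
      obtain ⟨b, w, hbw⟩ := mem_uSyl.1 ((hPc ⟨a, hP ha⟩).1 ha)
      obtain ⟨B, w', hB, hρB⟩ := hform a (hP ha)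
      refine ⟨b, Equiv.ext fun v => ?_⟩
      have h1 := conj_uSyl b w v
      rw [← hbw, hB, conj_of_form] at h1
      rw [hρB]
      exact Multiplicative.ofAdd.injective (sieg_injective hF.two h1)
    · rintro ⟨b, hb'⟩
      have haC := hfix a 1 one_ne_zero (by rw [hb', ut_fix ⟨rfl, rfl⟩])
      obtain ⟨B, w, hB, hρB⟩ := hform a haC
      refine (hPc ⟨a, haC⟩).2 (mem_uSyl.2 ⟨b, w, ?_⟩)
      rw [hB, lev_eq_of_psi (A' := utM b 1) (by rw [← hρB, hb', psi_utM])]
      rfl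
  -- central elements of Sylow subgroups
  have hcent : ∀ (u : G) (Pu : Sylow p G), orderOf u = p → u ∈ (Pu : Subgroup G) →
      (∀ y ∈ (Pu : Subgroup G), y * u = u * y) →
      ∃ (g : G) (z : F), z ≠ 0 ∧ g * u * g⁻¹ = ι (Multiplicative.ofAdd ((z, 0, 0) : V F)) := by
    intro u Pu hu huP huc
    obtain ⟨g, hg⟩ := MulAction.exists_smul_eq G Pu P
    have hgm : ∀ w, w ∈ (P : Subgroup G) ↔ g⁻¹ * w * g ∈ (Pu : Subgroup G) := fun w => by
      rw [← hg, Sylow.smul_def, Sylow.pointwise_smul_def, Subgroup.mem_pointwise_smul_iff_inv_smul_mem]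
      simp [MulAut.smul_def]
    have hgu : g * u * g⁻¹ ∈ (P : Subgroup G) :=
      (hgm _).2 (by rw [show g⁻¹ * (g * u * g⁻¹) * g = u by group]; exact huP)
    obtain ⟨z, hz⟩ := center_uSyl hF (X := (c ⟨_, hP hgu⟩ : Cfsg.PSp 2 F)) ((hPc _).1 hgu) fun Y hY => by
      set w := c.symm ⟨Y, hUC hY⟩ with hw
      have hwP : (w : G) ∈ (P : Subgroup G) := (hPc w).2 (by rw [hw, c.apply_symm_apply]; exact hY)
      have h1 := huc _ ((hgm _).1 hwP)
      have h2 : (w : G) * (g * u * g⁻¹) = g * u * g⁻¹ * w := by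
        calc (w : G) * (g * u * g⁻¹) = g * (g⁻¹ * w * g * u) * g⁻¹ := by group
          _ = g * u * g⁻¹ * w := by rw [h1]; group
      have h3 := congrArg (fun k => ((c k : C1) : Cfsg.PSp 2 F))
        (show w * ⟨_, hP hgu⟩ = ⟨_, hP hgu⟩ * w from Subtype.ext h2)
      simp only [map_mul, Subgroup.coe_mul] at h3
      rw [show ((c w : C1) : Cfsg.PSp 2 F) = Y by rw [hw, c.apply_symm_apply]] at h3
      exact h3
    have h4 := hback ⟨_, hP hgu⟩ _ hz
    simp only at h4
    refine ⟨g, z, fun h0 => ?_, h4⟩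
    subst h0
    rw [show ((0, 0, 0) : V F) = 0 from rfl, ofAdd_zero, map_one, mul_inv_eq_one, mul_eq_left] at h4
    rw [h4, orderOf_one] at hu
    exact hF.prime.ne_one hu.symm
  have hLevi : Levi A := by
    refine ⟨?_, hutA, hstab, ?_, ?_⟩
    · rintro _ ⟨a, rfl⟩ v w; exact hadd a v w
    · obtain ⟨u, v, Pu, Pv, hu, hv, huP, huc, hvP, hvc, hne⟩ := hc
      by_contra hno
      push Not at hno
      obtain ⟨g, z, hz, hgz⟩ := hcent u Pu hu huP huc
      obtain ⟨g', z', hz', hgz'⟩ := hcent v Pv hv hvP hvc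
      obtain ⟨_, ⟨a, rfl⟩, ha⟩ := hno z hz
      obtain ⟨_, ⟨a', rfl⟩, ha'⟩ := hno z' hz'
      have e1 := hρ a ((1, 0, 0) : V F)
      have e2 := hρ a' ((1, 0, 0) : V F)
      rw [ha, ← hgz] at e1
      rw [ha', ← hgz'] at e2
      refine hne (g'⁻¹ * (a' : G) * (a : G)⁻¹ * g) ?_
      calc g'⁻¹ * (a' : G) * (a : G)⁻¹ * g * u * (g'⁻¹ * (a' : G) * (a : G)⁻¹ * g)⁻¹
          = g'⁻¹ * (a' : G) * (a : G)⁻¹ * (g * u * g⁻¹) * (a : G) * (a' : G)⁻¹ * g' := by group
        _ = g'⁻¹ * ((a' : G) * ι (Multiplicative.ofAdd ((1, 0, 0) : V F)) * (a' : G)⁻¹) * g' := by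
            rw [e1]; group
        _ = v := by rw [← e2]; group
    · by_contra hno
      push Not at hno
      haveI : ((P.subtype hPN : Sylow p N) : Subgroup N).Normal := by
        refine ⟨fun y hy a => ?_⟩
        rw [Sylow.coe_subtype, Subgroup.mem_subgroupOf] at hy ⊢
        obtain ⟨b, hb'⟩ := (hPiff y).1 hy
        refine (hPiff _).2 ?_
        have h1 : (ρ a)⁻¹ ((1, 0, 0) : V F) ∈ (axZ : Set (V F)) := by
          rw [← mem_smul_iff, hno _ ⟨a, rfl⟩]; exact ⟨rfl, rfl⟩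
        obtain ⟨b', l, hbl⟩ := hstab _ ⟨a * y * a⁻¹, rfl⟩ 1 one_ne_zero (by
          rw [map_mul, map_mul, map_inv, hb', Equiv.Perm.mul_apply, Equiv.Perm.mul_apply, ut_fix h1]
          exact (ρ a).apply_symm_apply _)
        refine ⟨b', ?_⟩
        have hl : l = 1 := eq_one_of_ut_pow hF (b := b') (by
          rw [← hbl, map_mul, map_mul, map_inv, conj_pow, hb', ut_pow_char hF]; group)
        rw [hbl, hl]
      obtain ⟨Q, R, hQR⟩ := hnc
      haveI := Sylow.unique_of_normal (P.subtype hPN) ‹_›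
      exact hQR (Subsingleton.elim _ _)
  -- the complement
  obtain ⟨Φ⟩ := nonempty_equiv_of_levi hLevi hF
  set K : Subgroup N := M.subgroupOf N with hK
  have hKeq : ρ.ker = K := by
    ext a
    rw [MonoidHom.mem_ker, hker, Subgroup.mem_subgroupOf]
  haveI hKn : K.Normal := hKeq ▸ MonoidHom.normal_ker ρ
  haveI : IsMulCommutative K := ⟨⟨fun a b => by
    refine Subtype.ext (Subtype.ext ?_)
    exact congrArg (fun t : M => (t : G))
      (hMc.is_comm.comm (⟨_, Subgroup.mem_subgroupOf.1 a.2⟩ : M) ⟨_, Subgroup.mem_subgroupOf.1 b.2⟩)⟩⟩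
  let cl : Multiplicative F →* Cα :=
    c.symm.toMonoidHom.comp ((uLev (F := F)).codRestrict C1 fun b => hlevC b.toAdd 1)
  have hcl : ∀ b, (c (cl b) : Cfsg.PSp 2 F) = lev (utM b.toAdd 1) := fun b => by
    show ((c (c.symm _)) : Cfsg.PSp 2 F) = _
    rw [c.apply_symm_apply]; rfl
  have hclN : ∀ b, (cl b : G) ∈ N := fun b => (hlev _ 1 _ (hcl b)).1
  let ν : Multiplicative F →* N := (Cα.subtype.comp cl).codRestrict N hclN
  have hρν : ∀ b, ρ (ν b) = ut b.toAdd 1 := fun b => (hlev _ 1 _ (hcl b)).2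
  set U : Subgroup N := (P : Subgroup G).subgroupOf N with hU
  have hKU : K ≤ U := fun a ha => hMP (Subgroup.mem_subgroupOf.1 ha)
  have hcop : (Nat.card K).Coprime U.index := by
    rw [Nat.card_congr (Subgroup.subgroupOfEquivOfLe (hMP.trans hPN)).toEquiv, hMcard]
    refine Nat.Coprime.pow_left _ ((Nat.Prime.coprime_iff_not_dvd hF.prime).2 ?_)
    rw [hU, ← Sylow.coe_subtype _ hPN]
    exact (P.subtype hPN).not_dvd_index
  have hAK : ν.range ⊓ K = ⊥ := by
    rw [eq_bot_iff]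
    rintro _ ⟨⟨b, rfl⟩, hb'⟩
    have hk : ρ (ν b) = 1 := MonoidHom.mem_ker.1 (hKeq.symm ▸ hb')
    rw [hρν, ← ut_zero_one] at hk
    rw [Subgroup.mem_bot, show b = 1 from Multiplicative.toAdd.injective (ut_inj hk).1, map_one]
  have hKA : K ⊔ ν.range = U := by
    refine le_antisymm (sup_le hKU ?_) fun y hy => ?_
    · rintro _ ⟨b, rfl⟩
      exact (hPiff _).2 ⟨_, hρν b⟩
    · obtain ⟨b, hb'⟩ := (hPiff y).1 hy
      rw [show y = y * (ν (Multiplicative.ofAdd b))⁻¹ * ν (Multiplicative.ofAdd b) by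
        rw [inv_mul_cancel_right]]
      refine Subgroup.mul_mem_sup ?_ ⟨_, rfl⟩
      rw [← hKeq, MonoidHom.mem_ker, map_mul, map_inv, hρν, hb']
      exact mul_inv_cancel _
  obtain ⟨H, hH⟩ := Solvable.gaschutz_exists hKU hcop hAK hKA
  refine ⟨H.map N.subtype, Subgroup.map_subtype_le H, ?_, ?_, ⟨?_⟩⟩
  · have h1 := congrArg (Subgroup.map N.subtype) hH.sup_eq_top
    rw [Subgroup.map_sup, Subgroup.map_subgroupOf_eq_of_le (hMP.trans hPN), ← MonoidHom.range_eq_map,
      Subgroup.range_subtype] at h1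
    exact h1
  · have h1 := congrArg (Subgroup.map N.subtype) hH.disjoint.eq_bot
    rw [Subgroup.map_inf _ _ _ N.subtype_injective, Subgroup.map_subgroupOf_eq_of_le (hMP.trans hPN),
      Subgroup.map_bot] at h1
    exact h1
  · exact (H.equivMapOfInjective _ N.subtype_injective).symm.trans (hH.symm.QuotientMulEquiv.symm.trans
      ((QuotientGroup.quotientMulEquivOfEq hKeq.symm).trans
        ((QuotientGroup.quotientKerEquivRange ρ).trans Φ)))

end Cfsg.Agent.SympLevi
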