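import Cfsg.Agent.Lib.SympLevi.Psi
import Mathlib.GroupTheory.Perm.Cycle.Type
import Mathlib.GroupTheory.Index
import Mathlib.GroupTheory.GroupAction.Quotient
import Mathlib.FieldTheory.Finite.Basic

/-!
# The images of the fixed axis (owner: helper67)

`A` is a group of additive permutations of the triples in which the stabiliser of a point `(z, 0, 0)`, `z ≠ 0`,
consists of the `ut b l`.
-/

set_option autoImplicit false
set_option linter.unusedSectionVars false

namespace Cfsg.Agent.SympLevi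

open Pointwise

variable {F : Type*} [Field F]

/-- The hypotheses. -/
structure Levi (A : Subgroup (Equiv.Perm (V F))) : Prop where
  add : ∀ a ∈ A, ∀ v w, a (v + w) = a v + a w
  ut_mem : ∀ b l, ut b l ∈ A
  stab : ∀ a ∈ A, ∀ z : F, z ≠ 0 → a (z, 0, 0) = (z, 0, 0) → ∃ b l, a = ut b l
  notTrans : ∃ z : F, z ≠ 0 ∧ ∀ a ∈ A, a ((1, 0, 0) : V F) ≠ (z, 0, 0)
  moves : ∃ a ∈ A, a • (axZ : Set (V F)) ≠ axZ

theorem axZ_eq : (axZ : Set (V F)) = Set.range fun z : F => ((z, 0, 0) : V F) := by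
  ext ⟨z, y, w⟩
  simp [axZ, eq_comm]

theorem axY_eq : (axY : Set (V F)) = Set.range fun y : F => ((0, y, 0) : V F) := by
  ext ⟨z, y, w⟩
  simp [axY, eq_comm]

theorem axW_eq : (axW : Set (V F)) = Set.range fun w : F => ((0, 0, w) : V F) := by
  ext ⟨z, y, w⟩
  simp [axW, eq_comm]

theorem ncard_axZ : (axZ : Set (V F)).ncard = Nat.card F := by
  rw [axZ_eq, Set.ncard_range_of_injective fun a b h => (Prod.ext_iff.1 h).1]

theorem ncard_axY : (axY : Set (V F)).ncard = Nat.card F := by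
  rw [axY_eq, Set.ncard_range_of_injective fun a b h => (Prod.ext_iff.1 (Prod.ext_iff.1 h).2).1]

theorem ncard_axW : (axW : Set (V F)).ncard = Nat.card F := by
  rw [axW_eq, Set.ncard_range_of_injective fun a b h => (Prod.ext_iff.1 (Prod.ext_iff.1 h).2).2]

theorem mem_smul_iff (a : Equiv.Perm (V F)) (S : Set (V F)) (v : V F) :
    v ∈ a • S ↔ a⁻¹ v ∈ S := by
  rw [Set.mem_smul_set_iff_inv_smul_mem]; rfl

theorem smul_mem (a : Equiv.Perm (V F)) {S : Set (V F)} {v : V F} (hv : v ∈ S) : a v ∈ a • S :=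
  Set.smul_mem_smul_set hv

/-- Orbit sizes of a free action. -/
theorem dvd_ncard_of_free {G α : Type*} [Group G] [Finite G] [MulAction G α] (s : Set α) (hs : s.Finite)
    (hinv : ∀ g : G, ∀ x ∈ s, g • x ∈ s) (hfree : ∀ g : G, ∀ x ∈ s, g • x = x → g = 1) :
    Nat.card G ∣ s.ncard := by
  induction hn : s.ncard using Nat.strong_induction_on generalizing s with
  | _ n ih =>
    subst hn
    rcases s.eq_empty_or_nonempty with rfl | ⟨x, hx⟩
    · simp
    have ho : (MulAction.orbit G x).ncard = Nat.card G := by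
      rw [show MulAction.orbit G x = Set.range (fun g : G => g • x) from rfl,
        Set.ncard_range_of_injective]
      intro g h e
      simp only at e
      exact (inv_mul_eq_one.1 (hfree (g⁻¹ * h) x hx (by rw [mul_smul, ← e, inv_smul_smul])))
    have hsub : MulAction.orbit G x ⊆ s := by rintro _ ⟨g, rfl⟩; exact hinv g x hx
    have hd := Set.ncard_sdiff_add_ncard_of_subset hsub hs
    have hpos : 0 < Nat.card G := Nat.card_pos
    refine hd ▸ Nat.dvd_add (ih _ ?_ _ (hs.subset Set.sdiff_subset) ?_ ?_ rfl) (dvd_of_eq ho.symm)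
    · omega
    · rintro g y ⟨hy, hyo⟩
      refine ⟨hinv g y hy, fun h => hyo ?_⟩
      have h' := MulAction.mem_orbit_of_mem_orbit g⁻¹ h
      rwa [inv_smul_smul] at h'
    · exact fun g y hy => hfree g y hy.1

variable [Fintype F] {A : Subgroup (Equiv.Perm (V F))} (hA : Levi A)
include hA

omit [Fintype F] in
theorem map_zero' {a : Equiv.Perm (V F)} (ha : a ∈ A) : a 0 = 0 := by
  have h := hA.add a ha 0 0
  rwa [add_zero, left_eq_add] at h

omit [Fintype F] in
theorem map_neg' {a : Equiv.Perm (V F)} (ha : a ∈ A) (v : V F) : a (-v) = -a v := by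
  refine eq_neg_of_add_eq_zero_left ?_
  rw [← hA.add a ha, neg_add_cancel, map_zero' hA ha]

omit [Fintype F] in
theorem map_sub' {a : Equiv.Perm (V F)} (ha : a ∈ A) (v w : V F) : a (v - w) = a v - a w := by
  rw [sub_eq_add_neg, hA.add a ha, map_neg' hA ha, ← sub_eq_add_neg]

omit [Fintype F] in
theorem sref_mem : (sref : Equiv.Perm (V F)) ∈ A := hA.ut_mem 0 (-1)

omit [Fintype F] in
/-- An element fixing one point of the axis fixes all. -/
theorem fix_axZ {a : Equiv.Perm (V F)} (ha : a ∈ A) {v : V F} (hv : v ∈ axZ) (hv0 : v ≠ 0)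
    (hav : a v = v) : ∃ b l, a = ut b l := by
  rw [axZ_eq] at hv
  obtain ⟨z, rfl⟩ := hv
  exact hA.stab a ha z (fun h => hv0 (by simp [h])) hav

/-- The axis is a trivial intersection set. -/
theorem smul_axZ_of_mem (h2 : (2 : F) ≠ 0) {a : Equiv.Perm (V F)} (ha : a ∈ A) {v : V F} (hv : v ∈ axZ)
    (hv0 : v ≠ 0) (hav : a v ∈ axZ) : a • (axZ : Set (V F)) = axZ := by
  refine Set.eq_of_subset_of_ncard_le ?_ (by rw [Set.ncard_smul_set]) (Set.toFinite _)
  rintro _ ⟨w, hw, rfl⟩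
  show a w ∈ axZ
  set u : Equiv.Perm (V F) := a⁻¹ * ut 1 1 * a with hu
  have hmem : u ∈ A := mul_mem (mul_mem (inv_mem ha) (hA.ut_mem _ _)) ha
  have huv : u v = v := by
    show a⁻¹ (ut 1 1 (a v)) = v
    rw [ut_fix hav]; exact a.symm_apply_apply v
  obtain ⟨b, l, hbl⟩ := fix_axZ hA hmem hv hv0 huv
  refine fix_ut h2 (b := (1 : F)) one_ne_zero ?_
  have huw : u w = w := by rw [hbl, ut_fix hw]
  have h : a (u w) = ut 1 1 (a w) := a.apply_symm_apply _
  rw [huw] at h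
  exact h.symm

/-- The members. -/
def orb (A : Subgroup (Equiv.Perm (V F))) : Set (Set (V F)) := {S | ∃ a ∈ A, a • (axZ : Set (V F)) = S}

omit hA [Fintype F] in
theorem orb_smul {a : Equiv.Perm (V F)} (ha : a ∈ A) {S : Set (V F)} (hS : S ∈ orb A) : a • S ∈ orb A := by
  obtain ⟨b, hb, rfl⟩ := hS
  exact ⟨a * b, mul_mem ha hb, mul_smul a b _⟩

omit hA [Fintype F] in
theorem axZ_mem_orb : (axZ : Set (V F)) ∈ orb A := ⟨1, one_mem _, one_smul _ _⟩

omit hA in
theorem ncard_member {S : Set (V F)} (hS : S ∈ orb A) : S.ncard = Nat.card F := by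
  obtain ⟨a, -, rfl⟩ := hS
  rw [Set.ncard_smul_set, ncard_axZ]

omit hA in
theorem member_eq {S : Set (V F)} (hS : S ∈ orb A) {T : Set (V F)} (hT : T.ncard = Nat.card F)
    (h : S ⊆ T) : S = T :=
  Set.eq_of_subset_of_ncard_le h (by rw [hT, ncard_member hS]) (Set.toFinite _)

omit [Fintype F] in
theorem zero_mem_member {S : Set (V F)} (hS : S ∈ orb A) : (0 : V F) ∈ S := by
  obtain ⟨a, ha, rfl⟩ := hS
  have h : ((0 : V F)) ∈ (axZ : Set (V F)) := ⟨rfl, rfl⟩
  have := smul_mem a h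
  rwa [map_zero' hA ha] at this

omit [Fintype F] in
theorem add_mem_member {S : Set (V F)} (hS : S ∈ orb A) {v w : V F} (hv : v ∈ S) (hw : w ∈ S) :
    v + w ∈ S := by
  obtain ⟨a, ha, rfl⟩ := hS
  obtain ⟨v', hv', rfl⟩ := hv
  obtain ⟨w', hw', rfl⟩ := hw
  refine ⟨v' + w', ?_, hA.add a ha v' w'⟩
  exact ⟨by simp [hv'.1, hw'.1], by simp [hv'.2, hw'.2]⟩

omit [Fintype F] in
theorem neg_mem_member {S : Set (V F)} (hS : S ∈ orb A) {v : V F} (hv : v ∈ S) : -v ∈ S := by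
  obtain ⟨a, ha, rfl⟩ := hS
  obtain ⟨v', hv', rfl⟩ := hv
  refine ⟨-v', ?_, map_neg' hA ha v'⟩
  exact ⟨by simp [hv'.1], by simp [hv'.2]⟩

/-- Two members meet trivially. -/
theorem member_disjoint (h2 : (2 : F) ≠ 0) {S T : Set (V F)} (hS : S ∈ orb A) (hT : T ∈ orb A) {v : V F}
    (hvS : v ∈ S) (hvT : v ∈ T) (hv : v ≠ 0) : S = T := by
  obtain ⟨a, ha, rfl⟩ := hS
  obtain ⟨b, hb, rfl⟩ := hT
  obtain ⟨v', hv', rfl⟩ := hvS
  rw [mem_smul_iff] at hvT
  have h0 : v' ≠ 0 := fun h => hv (by rw [h]; exact map_zero' hA ha)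
  have h := smul_axZ_of_mem hA h2 (mul_mem (inv_mem hb) ha) hv' h0 hvT
  rw [mul_smul, inv_smul_eq_iff] at h
  exact h

/-- A permutation of `p`-power order of a member fixes a non-zero point. -/
theorem exists_fixed_in_member (p n : ℕ) [hp : Fact p.Prime] (hn : 1 ≤ n) (hq : Nat.card F = p ^ n)
    {u : Equiv.Perm (V F)} (hu : u ∈ A) (hup : u ^ p = 1) {S : Set (V F)} (hS : S ∈ orb A)
    (huS : u • S = S) : ∃ v ∈ S, v ≠ 0 ∧ u v = v := by
  classical
  have hmaps : ∀ v, u v ∈ S ↔ v ∈ S := fun v => by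
    constructor
    · intro h; rw [← huS, mem_smul_iff] at h
      rwa [← Equiv.Perm.mul_apply, inv_mul_cancel, Equiv.Perm.one_apply] at h
    · intro h; rw [← huS]; exact smul_mem u h
  let σ : Equiv.Perm S := u.subtypePerm hmaps
  have hσ : σ ^ p ^ 1 = 1 := by
    rw [pow_one, Equiv.Perm.subtypePerm_pow]
    exact Equiv.ext fun x => Subtype.ext (by simp [hup])
  obtain ⟨b, hb1, hb2⟩ := Equiv.Perm.exists_fixed_point_of_prime' (p := p) (n := 1) (α := S)
    (by rw [← Nat.card_eq_fintype_card, Nat.card_coe_set_eq, ncard_member hS, hq]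
        exact dvd_pow_self p (by omega)) hσ
    (a := (⟨0, zero_mem_member hA hS⟩ : S)) (Subtype.ext (map_zero' hA hu))
  exact ⟨b.1, b.2, fun h => hb2 (Subtype.ext h), congrArg Subtype.val hb1⟩

omit [Fintype F] in
/-- `axY` is no member. -/
theorem axY_not_mem : (axY : Set (V F)) ∉ orb A := by
  rintro ⟨a, ha, hY⟩
  obtain ⟨z, hz, hnt⟩ := hA.notTrans
  have h1 : a ((1, 0, 0) : V F) ∈ (axY : Set (V F)) := hY ▸ smul_mem a ⟨rfl, rfl⟩
  have h3 : a ((z, 0, 0) : V F) ∈ (axY : Set (V F)) := hY ▸ smul_mem a ⟨rfl, rfl⟩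
  rw [axY_eq] at h1 h3
  obtain ⟨y1, hy1⟩ := h1
  obtain ⟨y2, hy2⟩ := h3
  have hne : ∀ y x, x ≠ (0 : F) → ((0, y, 0) : V F) = a (x, 0, 0) → y ≠ 0 := by
    intro y x hx h hy
    apply hx
    have : a (x, 0, 0) = a 0 := by rw [map_zero' hA ha, ← h, hy]; rfl
    exact (Prod.ext_iff.1 (a.injective this)).1
  have hy10 := hne y1 1 one_ne_zero hy1
  have hy20 := hne y2 z hz hy2
  refine hnt (a⁻¹ * tor (Units.mk0 (y2 / y1) (div_ne_zero hy20 hy10)) * a)
    (mul_mem (mul_mem (inv_mem ha) (hA.ut_mem _ _)) ha) ?_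
  simp only at hy1 hy2
  show a⁻¹ (tor _ (a (1, 0, 0))) = _
  rw [← hy1]
  have : tor (Units.mk0 (y2 / y1) (div_ne_zero hy20 hy10)) ((0, y1, 0) : V F) = (0, y2, 0) := by
    simp [ut_apply, hy10]
  rw [this, hy2]
  exact a.symm_apply_apply _

end Cfsg.Agent.SympLevi
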