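import Mathlib.LinearAlgebra.Matrix.GeneralLinearGroup.Projective
import Mathlib.GroupTheory.GroupAction.Hom
import Mathlib.Algebra.Group.Pointwise.Set.Basic
import Mathlib.FieldTheory.Finite.Basic
import Mathlib.Tactic.Ring
import Mathlib.Tactic.LinearCombination

/-!
# The symmetric square of `GL₂` (owner: helper67)

`psi g` is `S ↦ g S gᵀ` on symmetric matrices `(z, y; y, w)`, written on triples `(z, y, w)`.
`ut b l` is the image of `(1, b; 0, l)`.
-/

set_option autoImplicit false

namespace Cfsg.Agent.SympLevi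

variable {F : Type*} [Field F]

/-- The underlying triples. -/
abbrev V (F : Type*) : Type _ := F × F × F

/-- The formula of the action. -/
def act (a b c d : F) (v : V F) : V F :=
  (a ^ 2 * v.1 + 2 * a * b * v.2.1 + b ^ 2 * v.2.2,
    a * c * v.1 + (a * d + b * c) * v.2.1 + b * d * v.2.2,
    c ^ 2 * v.1 + 2 * c * d * v.2.1 + d ^ 2 * v.2.2)

theorem act_act (a b c d a' b' c' d' : F) (v : V F) :
    act a b c d (act a' b' c' d' v) =
      act (a * a' + b * c') (a * b' + b * d') (c * a' + d * c') (c * b' + d * d') v := by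
  simp only [act, Prod.mk.injEq]
  refine ⟨?_, ?_, ?_⟩ <;> ring

theorem act_one (v : V F) : act (1 : F) 0 0 1 v = v := by
  simp [act]

theorem act_add (a b c d : F) (v w : V F) : act a b c d (v + w) = act a b c d v + act a b c d w := by
  simp only [act, Prod.fst_add, Prod.snd_add, Prod.mk_add_mk, Prod.mk.injEq]
  refine ⟨?_, ?_, ?_⟩ <;> ring

/-- The action of a matrix. -/
def actM (g : Matrix (Fin 2) (Fin 2) F) (v : V F) : V F := act (g 0 0) (g 0 1) (g 1 0) (g 1 1) v

theorem actM_mul (g h : Matrix (Fin 2) (Fin 2) F) (v : V F) : actM (g * h) v = actM g (actM h v) := by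
  rw [actM, actM, actM, act_act]
  simp [Matrix.mul_apply, Fin.sum_univ_two]

theorem actM_one (v : V F) : actM (1 : Matrix (Fin 2) (Fin 2) F) v = v := by
  simp [actM, act_one]

/-- The symmetric square representation. -/
def psi : GL (Fin 2) F →* Equiv.Perm (V F) where
  toFun g :=
    { toFun := actM g.1
      invFun := actM (g⁻¹ : GL (Fin 2) F).1
      left_inv := fun v => by rw [← actM_mul, ← Units.val_mul, inv_mul_cancel, Units.val_one, actM_one]
      right_inv := fun v => by rw [← actM_mul, ← Units.val_mul, mul_inv_cancel, Units.val_one, actM_one]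
    }
  map_one' := Equiv.ext fun v => actM_one v
  map_mul' g h := Equiv.ext fun v => actM_mul g.1 h.1 v

theorem psi_add (g : GL (Fin 2) F) (v w : V F) : psi g (v + w) = psi g v + psi g w :=
  act_add _ _ _ _ v w

theorem psi_apply (g : GL (Fin 2) F) (v : V F) :
    psi g v = act (g.1 0 0) (g.1 0 1) (g.1 1 0) (g.1 1 1) v := rfl

/-- The matrix with given entries. -/
noncomputable def mat (a b c d : F) (h : a * d - b * c ≠ 0) : GL (Fin 2) F :=
  Matrix.GeneralLinearGroup.mkOfDetNeZero !![a, b; c, d] (by rwa [Matrix.det_fin_two_of])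

theorem psi_mat (a b c d : F) (h : a * d - b * c ≠ 0) (v : V F) :
    psi (mat a b c d h) v = act a b c d v := rfl

theorem psi_eq_one {g : GL (Fin 2) F} :
    psi g = 1 ↔ g.1 = 1 ∨ g.1 = -1 := by
  constructor
  · intro h
    have h1 := DFunLike.congr_fun h ((1 : F), (0 : F), (0 : F))
    have h2 := DFunLike.congr_fun h ((0 : F), (1 : F), (0 : F))
    have h3 := DFunLike.congr_fun h ((0 : F), (0 : F), (1 : F))
    simp only [psi_apply, act, mul_zero, add_zero, zero_add, mul_one, Equiv.Perm.one_apply,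
      Prod.mk.injEq] at h1 h2 h3
    obtain ⟨ha, hac, hc⟩ := h1
    obtain ⟨-, had, -⟩ := h2
    obtain ⟨hb, -, hd⟩ := h3
    have hb0 : g.1 0 1 = 0 := by simpa using hb
    have hc0 : g.1 1 0 = 0 := by simpa using hc
    rw [hb0, zero_mul, add_zero] at had
    rcases mul_self_eq_one_iff.1 (show g.1 0 0 * g.1 0 0 = 1 by rw [← sq, ha]) with e | e
    · left
      have hd1 : g.1 1 1 = 1 := by simpa [e] using had
      ext i j
      fin_cases i <;> fin_cases j <;> simp [e, hd1, hb0, hc0]
    · right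
      have hd1 : g.1 1 1 = -1 := by
        rw [e] at had
        linear_combination -had
      ext i j
      fin_cases i <;> fin_cases j <;> simp [e, hd1, hb0, hc0]
  · rintro (h | h) <;> refine Equiv.ext fun v => ?_ <;> simp [psi_apply, h, act]

/-- The image of `(1, b; 0, l)`. -/
noncomputable def ut (b : F) (l : Fˣ) : Equiv.Perm (V F) :=
  psi (mat 1 b 0 (l : F) (by simp))

theorem ut_apply (b : F) (l : Fˣ) (v : V F) :
    ut b l v = (v.1 + 2 * b * v.2.1 + b ^ 2 * v.2.2, (l : F) * v.2.1 + b * (l : F) * v.2.2,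
      (l : F) ^ 2 * v.2.2) := by
  show act 1 b 0 (l : F) v = _
  simp [act]

theorem ut_mem_range (b : F) (l : Fˣ) : ut b l ∈ (psi : GL (Fin 2) F →* _).range := ⟨_, rfl⟩

theorem ut_mul (b b' : F) (l l' : Fˣ) : ut b l * ut b' l' = ut (b' + b * (l' : F)) (l * l') := by
  refine Equiv.ext fun v => ?_
  show ut b l (ut b' l' v) = _
  simp only [ut_apply, Units.val_mul, Prod.mk.injEq]
  refine ⟨?_, ?_, ?_⟩ <;> ring

theorem ut_zero_one : ut (0 : F) 1 = 1 := Equiv.ext fun v => by simp [ut_apply]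

theorem ut_pow (b : F) (i : ℕ) : ut b 1 ^ i = ut ((i : F) * b) 1 := by
  induction i with
  | zero => simp [ut_zero_one]
  | succ i ih => rw [pow_succ, ih, ut_mul]; congr 1 <;> simp; ring

theorem ut_inv (b : F) : (ut b 1)⁻¹ = ut (-b) 1 := by
  refine inv_eq_of_mul_eq_one_left ?_
  rw [ut_mul]; simp [ut_zero_one]

theorem ut_inj {b b' : F} {l l' : Fˣ} (h : ut b l = ut b' l') : b = b' ∧ l = l' := by
  have h2 := DFunLike.congr_fun h ((0 : F), (1 : F), (0 : F))
  have h3 := DFunLike.congr_fun h ((0 : F), (0 : F), (1 : F))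
  simp only [ut_apply, mul_zero, add_zero, zero_add, mul_one, Prod.mk.injEq] at h2 h3
  have hl : l = l' := Units.ext h2.2.1
  refine ⟨?_, hl⟩
  subst hl
  exact mul_right_cancel₀ l.ne_zero h3.2.1

/-- The torus element. -/
noncomputable abbrev tor (l : Fˣ) : Equiv.Perm (V F) := ut 0 l

theorem tor_mul_ut (b : F) (l : Fˣ) :
    tor l * ut b 1 * tor l⁻¹ = ut (b * (l⁻¹ : Fˣ)) 1 := by
  rw [ut_mul, ut_mul]; simp

/-- The reflection. -/
noncomputable abbrev sref : Equiv.Perm (V F) := ut (0 : F) (-1)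

theorem sref_apply (v : V F) : sref v = (v.1, -v.2.1, v.2.2) := by
  simp [ut_apply]

theorem sref_mul_self : (sref : Equiv.Perm (V F)) * sref = 1 := by
  rw [ut_mul]; simp [ut_zero_one]

/-- The first, second and third coordinate axis. -/
def axZ : Set (V F) := {v | v.2.1 = 0 ∧ v.2.2 = 0}
@[inherit_doc axZ]
def axY : Set (V F) := {v | v.1 = 0 ∧ v.2.2 = 0}
@[inherit_doc axZ]
def axW : Set (V F) := {v | v.1 = 0 ∧ v.2.1 = 0}

theorem ut_fix {b : F} {l : Fˣ} {v : V F} (hv : v ∈ axZ) : ut b l v = v := by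
  obtain ⟨h1, h2⟩ := hv
  ext <;> simp [ut_apply, h1, h2]

theorem fix_ut (h2 : (2 : F) ≠ 0) {b : F} (hb : b ≠ 0) {v : V F} (hv : ut b 1 v = v) : v ∈ axZ := by
  simp only [ut_apply, Units.val_one, one_mul, mul_one, one_pow, Prod.ext_iff] at hv
  obtain ⟨hz, hy, -⟩ := hv
  have hw : v.2.2 = 0 := by
    have : b * v.2.2 = 0 := by linear_combination hy
    simpa [hb] using this
  refine ⟨?_, hw⟩
  have : (2 * b) * v.2.1 = 0 := by rw [hw] at hz; linear_combination hz
  simpa [hb, h2] using this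

end Cfsg.Agent.SympLevi
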