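import Cfsg.Agent.Lib.SympLevi.Isolated

/-!
# The torus on the members fixed by the reflection (owner: helper67)

`eq_axW_of_fix`: a fixed member normalised by a torus element of order `> 2` is the third axis.
`exists_model`: after conjugating, the third axis is a member.
`swap`: some element of the centraliser of the reflection exchanges the first and third axes,
and every element of `H` fixes the third axis.
-/

set_option autoImplicit false
set_option linter.unusedSectionVars false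

namespace Cfsg.Agent.SympLevi

open Pointwise

variable {F : Type*} [Field F] [Fintype F] {p n : ℕ}

theorem tor_apply (l : Fˣ) (v : V F) : tor l v = (v.1, (l : F) * v.2.1, (l : F) ^ 2 * v.2.2) := by
  simp [ut_apply]

theorem tor_mul (l l' : Fˣ) : tor l * tor l' = tor (l * l') := by
  rw [ut_mul]; simp

theorem tor_comm_sref (l : Fˣ) : tor l * sref = sref * tor l := by
  rw [tor_mul, tor_mul, mul_comm]

theorem axW_ne_axZ : (axW : Set (V F)) ≠ axZ := by
  intro h
  have h1 : ((1, 0, 0) : V F) ∈ (axZ : Set (V F)) := ⟨rfl, rfl⟩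
  rw [← h] at h1
  exact one_ne_zero h1.1

theorem tor_smul_axW (l : Fˣ) : tor l • (axW : Set (V F)) = axW := by
  refine Set.eq_of_subset_of_ncard_le ?_ (by rw [Set.ncard_smul_set]) (Set.toFinite _)
  rintro _ ⟨v, hv, rfl⟩
  show tor l v ∈ axW
  obtain ⟨h1, h2⟩ := hv
  exact ⟨by simp [tor_apply, h1], by simp [tor_apply, h2]⟩

theorem FieldHyp.sq_units_ne (hF : FieldHyp F p n) {c : Fˣ} (hc : c ^ 2 ≠ 1) : (c ^ 2) ^ 2 ≠ 1 := by
  intro h
  have h' : ((c : F) ^ 2) ^ 2 = 1 := by
    rw [← Units.val_pow_eq_pow_val, ← Units.val_pow_eq_pow_val, h, Units.val_one]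
  rcases sq_eq_one_iff.1 h' with e | e
  · exact hc (Units.ext (by rw [Units.val_pow_eq_pow_val, e, Units.val_one]))
  · exact hF.not_isSquare_neg_one ⟨(c : F), by rw [← e, sq]⟩

theorem FieldHyp.exists_gen (hF : FieldHyp F p n) (h7 : 7 ≤ Nat.card F) (bad : Finset F)
    (hbad : bad.card ≤ 6) : ∃ t : F, t ∉ bad := by
  classical
  by_contra! h
  have h1 := Finset.card_le_card (s := (Finset.univ : Finset F)) (t := bad) fun x _ => h x
  rw [Finset.card_univ, ← Nat.card_eq_fintype_card] at h1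
  omega

theorem FieldHyp.exists_sq_ne (hF : FieldHyp F p n) (h7 : 7 ≤ Nat.card F) : ∃ c : Fˣ, c ^ 2 ≠ 1 := by
  classical
  obtain ⟨t, ht⟩ := hF.exists_gen h7 {0, 1, -1}
    ((Finset.card_le_three).trans (by norm_num))
  simp only [Finset.mem_insert, Finset.mem_singleton, not_or] at ht
  refine ⟨Units.mk0 t ht.1, fun h => ?_⟩
  have h' := congrArg Units.val h
  rw [Units.val_pow_eq_pow_val, Units.val_one, Units.val_mk0, sq_eq_one_iff] at h'
  exact h'.elim ht.2.1 ht.2.2

theorem FieldHyp.isSquare_or_neg (hF : FieldHyp F p n) (y : F) : IsSquare y ∨ IsSquare (-y) := by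
  by_cases hy : y = 0
  · exact Or.inl (hy ▸ IsSquare.zero)
  have h2 : ringChar F ≠ 2 := by
    haveI := hF.char
    rw [ringChar.eq F p]; exact hF.odd_p
  refine or_iff_not_imp_left.2 fun h => ?_
  rw [FiniteField.isSquare_iff h2 (neg_ne_zero.2 hy)]
  rw [FiniteField.isSquare_iff h2 hy] at h
  rw [neg_pow, (FiniteField.pow_dichotomy h2 hy).resolve_left h, Odd.neg_one_pow ?_, neg_one_mul,
    neg_neg]
  rw [Nat.odd_iff, ← Nat.card_eq_fintype_card]
  have := hF.four
  omega

theorem FieldHyp.card_cases (hF : FieldHyp F p n) : Nat.card F = 3 ∨ 7 ≤ Nat.card F := by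
  have := hF.four; omega

variable {A : Subgroup (Equiv.Perm (V F))} (hA : Levi A) (hF : FieldHyp F p n)
include hA hF

theorem mem_axZ_member {S : Set (V F)} (hS : S ∈ orb A) (hne : S ≠ axZ) {v : V F} (hv : v ∈ S)
    (hy : v.2.1 = 0) (hw : v.2.2 = 0) : v = 0 := by
  by_contra h0
  exact hne (member_disjoint hA hF.two hS axZ_mem_orb hv ⟨hy, hw⟩ h0)

/-- A fixed member normalised by `tor l`, `l² ≠ 1`, is the third axis. -/
theorem eq_axW_of_fix {S : Set (V F)} (hS : S ∈ Fs A) (hne : S ≠ axZ) {l : Fˣ} (hl : l ^ 2 ≠ 1)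
    (hfix : tor l • S = S) : S = axW := by
  have hl' : (l : F) ^ 2 - 1 ≠ 0 := fun h => hl (Units.ext (by
    rw [Units.val_pow_eq_pow_val, Units.val_one]; exact sub_eq_zero.1 h))
  have hy : ∀ v ∈ S, v.2.1 = 0 := fun v hv => by
    have h := hS.2 v hv
    rw [sref_apply, Prod.ext_iff, Prod.ext_iff] at h
    have h2 : (2 : F) * v.2.1 = 0 := by linear_combination -h.2.1
    simpa [hF.two] using h2
  have hm : ∀ v ∈ S, tor l v - v ∈ S := fun v hv => by
    rw [sub_eq_add_neg]
    refine add_mem_member hA hS.1 ?_ (neg_mem_member hA hS.1 hv)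
    rw [← hfix]; exact smul_mem _ hv
  have hsub : (fun v => tor l v - v) '' S ⊆ S ∩ axW := by
    rintro _ ⟨v, hv, rfl⟩
    exact ⟨hm v hv, by simp [axW, tor_apply, hy v hv]⟩
  have hinj : Set.InjOn (fun v => tor l v - v) S := by
    intro v hv w hw e
    simp only [tor_apply, Prod.ext_iff, Prod.fst_sub, Prod.snd_sub] at e
    have e3 : ((l : F) ^ 2 - 1) * (v.2.2 - w.2.2) = 0 := by linear_combination e.2.2
    rw [mul_eq_zero, or_iff_right hl', sub_eq_zero] at e3
    exact sub_eq_zero.1 (mem_axZ_member hA hF hS.1 hne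
      (by rw [sub_eq_add_neg]; exact add_mem_member hA hS.1 hv (neg_mem_member hA hS.1 hw))
      (by simp [hy v hv, hy w hw]) (by simp [e3]))
  refine member_eq hS.1 ncard_axW ?_
  have h1 := Set.ncard_le_ncard hsub (Set.toFinite _)
  rw [hinj.ncard_image] at h1
  have h2 : S ∩ axW = S := Set.eq_of_subset_of_ncard_le Set.inter_subset_left h1 (Set.toFinite _)
  rw [← h2]
  exact Set.inter_subset_right

/-- A member normalised by the torus is the third axis. -/
theorem eq_axW_of_all (h7 : 7 ≤ Nat.card F) {S : Set (V F)} (hS : S ∈ orb A) (hne : S ≠ axZ)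
    (hX : ∀ c : Fˣ, tor (c ^ 2) • S = S) : S = axW := by
  classical
  let R : Set (V F) := {r | ∀ v ∈ S, ((r.1 * v.1, r.2.1 * v.2.1, r.2.2 * v.2.2) : V F) ∈ S}
  have hadd : ∀ r ∈ R, ∀ r' ∈ R, r + r' ∈ R := fun r hr r' hr' v hv => by
    convert add_mem_member hA hS (hr v hv) (hr' v hv) using 1
    simp [add_mul]
  have hneg : ∀ r ∈ R, -r ∈ R := fun r hr v hv => by
    convert neg_mem_member hA hS (hr v hv) using 1
    simp
  have hmul : ∀ r ∈ R, ∀ r' ∈ R, r * r' ∈ R := fun r hr r' hr' v hv => by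
    convert hr _ (hr' v hv) using 1
    simp [mul_assoc]
  have hsq : ∀ x : F, x ≠ 0 → ((1, x ^ 2, x ^ 4) : V F) ∈ R := fun x hx v hv => by
    have h := smul_mem (tor ((Units.mk0 x hx) ^ 2)) hv
    rw [hX] at h
    convert h using 1
    rw [tor_apply, Units.val_pow_eq_pow_val, Units.val_mk0, one_mul, ← pow_mul]
  by_cases hw : ∃ v ∈ S, v.2.2 ≠ 0
  · -- then `S` contains the third axis
    obtain ⟨t, ht⟩ := hF.exists_gen h7 {0, 1, -1} (Finset.card_le_three.trans (by norm_num))
    simp only [Finset.mem_insert, Finset.mem_singleton, not_or] at ht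
    obtain ⟨ht0, ht1, ht2⟩ := ht
    have ha : (1 - t ^ 2 : F) ≠ 0 := fun h => by
      rcases sq_eq_one_iff.1 (sub_eq_zero.1 h).symm with e | e
      exacts [ht1 e, ht2 e]
    have hc : (1 + t ^ 2 : F) ≠ 0 := fun h => hF.not_isSquare_neg_one ⟨t, by linear_combination -h⟩
    set d : F := -2 * ((1 - t ^ 2) ^ 2 * (2 * t) ^ 2) with hd
    have hd0 : d ≠ 0 := by
      rw [hd]; simp [hF.two, ha, ht0]
    have h0 : ((1, 0, d) : V F) ∈ R := by
      convert hadd _ (hadd _ (hsq _ ha) _ (hsq _ (mul_ne_zero hF.two ht0))) _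
        (hneg _ (hsq _ hc)) using 1
      simp only [Prod.mk_add_mk, Prod.neg_mk, Prod.mk.injEq, hd]
      refine ⟨by ring, by ring, by ring⟩
    have hdiff : ∀ x y : F, x ≠ 0 → y ≠ 0 → ((0, 0, d * (x ^ 4 - y ^ 4)) : V F) ∈ R := by
      intro x y hx hy
      convert hadd _ (hmul _ h0 _ (hsq x hx)) _ (hneg _ (hmul _ h0 _ (hsq y hy))) using 1
      simp only [Prod.mk_mul_mk, Prod.mk_add_mk, Prod.neg_mk, Prod.mk.injEq]
      refine ⟨by ring, by ring, by ring⟩
    have hfourth : ∀ a : F, a ≠ 0 → IsSquare a → ∃ x : F, x ≠ 0 ∧ x ^ 4 = a := by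
      rintro a ha0 ⟨y, rfl⟩
      have hy : y ≠ 0 := fun h => ha0 (by rw [h, mul_zero])
      rcases hF.isSquare_or_neg y with ⟨x, hx⟩ | ⟨x, hx⟩
      · exact ⟨x, fun h => hy (by rw [hx, h, mul_zero]), by rw [hx]; ring⟩
      · exact ⟨x, fun h => hy (by rw [← neg_eq_zero, hx, h, mul_zero]),
          by rw [show y * y = -y * -y by ring, hx]; ring⟩
    have hall : ∀ u : F, ((0, 0, u) : V F) ∈ R := by
      have key : ∀ r : F, r ≠ 1 → r ≠ -1 → ((0, 0, d * r) : V F) ∈ R := by
        intro r h1 h2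
        have hp : (r + 1) / 2 ≠ 0 := div_ne_zero (fun h => h2 (eq_neg_of_add_eq_zero_left h)) hF.two
        have hm : (r - 1) / 2 ≠ 0 := div_ne_zero (sub_ne_zero.2 h1) hF.two
        obtain ⟨x, hx, hx4⟩ := hfourth _ (pow_ne_zero 2 hp) ⟨(r + 1) / 2, sq _⟩
        obtain ⟨y, hy, hy4⟩ := hfourth _ (pow_ne_zero 2 hm) ⟨(r - 1) / 2, sq _⟩
        have := hdiff x y hx hy
        rw [hx4, hy4] at this
        convert this using 4
        field_simp [hF.two]
        ring
      intro u
      obtain ⟨r, hr⟩ := hF.exists_gen h7 {1, -1, u / d - 1, u / d + 1}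
        (Finset.card_le_four.trans (by norm_num))
      simp only [Finset.mem_insert, Finset.mem_singleton, not_or] at hr
      convert hadd _ (key r hr.1 hr.2.1) _ (key (u / d - r)
        (fun h => hr.2.2.1 (by linear_combination -h))
        (fun h => hr.2.2.2 (by linear_combination -h))) using 1
      simp only [Prod.mk_add_mk, Prod.mk.injEq, add_zero, true_and]
      field_simp
      ring
    obtain ⟨v, hv, hv0⟩ := hw
    refine (Set.eq_of_subset_of_ncard_le ?_ (by rw [ncard_member hS, ncard_axW]) (Set.toFinite _)).symm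
    rw [axW_eq]
    rintro _ ⟨w, rfl⟩
    convert hall (w / v.2.2) v hv using 1
    simp [hv0]
  · -- otherwise it is the second one
    exfalso
    push Not at hw
    obtain ⟨c, hc⟩ := hF.exists_sq_ne h7
    set l := c ^ 2 with hl
    have hl1 : ((l : Fˣ) : F) - 1 ≠ 0 := fun h => hc (Units.ext (by
      rw [Units.val_one]; exact sub_eq_zero.1 h))
    have hsub : (fun v => tor l v - v) '' S ⊆ S ∩ axY := by
      rintro _ ⟨v, hv, rfl⟩
      refine ⟨?_, by simp [axY, tor_apply, hw v hv]⟩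
      show tor l v - v ∈ S
      rw [sub_eq_add_neg]
      refine add_mem_member hA hS ?_ (neg_mem_member hA hS hv)
      rw [← hX c, ← hl]; exact smul_mem _ hv
    have hinj : Set.InjOn (fun v => tor l v - v) S := by
      intro v hv w hw' e
      simp only [tor_apply, Prod.ext_iff, Prod.fst_sub, Prod.snd_sub] at e
      have e2 : ((l : F) - 1) * (v.2.1 - w.2.1) = 0 := by linear_combination e.2.1
      rw [mul_eq_zero, or_iff_right hl1, sub_eq_zero] at e2
      exact sub_eq_zero.1 (mem_axZ_member hA hF hS hne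
        (by rw [sub_eq_add_neg]; exact add_mem_member hA hS hv (neg_mem_member hA hS hw'))
        (by simp [e2]) (by simp [hw v hv, hw w hw']))
    refine axY_not_mem hA ?_
    have h1 := Set.ncard_le_ncard hsub (Set.toFinite _)
    rw [hinj.ncard_image] at h1
    have h2 : S ∩ axY = S := Set.eq_of_subset_of_ncard_le Set.inter_subset_left h1 (Set.toFinite _)
    have h3 := member_eq hS ncard_axY (T := axY) (h2 ▸ Set.inter_subset_right)
    exact h3 ▸ hS

theorem tor_smul_Fs (l : Fˣ) {S : Set (V F)} (hS : S ∈ Fs A) : tor l • S ∈ Fs A := by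
  refine ⟨orb_smul (hA.ut_mem _ _) hS.1, ?_⟩
  rintro _ ⟨v, hv, rfl⟩
  show sref (tor l v) = tor l v
  rw [← Equiv.Perm.mul_apply, ← tor_comm_sref, Equiv.Perm.mul_apply, hS.2 v hv]

theorem tor_smul_axZ (l : Fˣ) : tor l • (axZ : Set (V F)) = axZ := (mem_Bsub.1 (ut_mem_Bsub hA hF 0 l)).2

theorem tor_smul_ne_axZ (l : Fˣ) {S : Set (V F)} (hne : S ≠ axZ) : tor l • S ≠ axZ := fun h =>
  hne (MulAction.injective (tor l) (h.trans (tor_smul_axZ hA hF l).symm))

/-- The members outside the axis and outside `near`. -/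
theorem tor_smul_near (l : Fˣ) {T : Set (V F)} (hT : T ∈ near A) : tor l • T ∈ near A := by
  obtain ⟨b, S, hS, hne, rfl⟩ := hT
  refine ⟨b * ((l⁻¹ : Fˣ) : F), tor l • S, tor_smul_Fs hA hF l hS, tor_smul_ne_axZ hA hF l hne, ?_⟩
  rw [← mul_smul, ← mul_smul, ← tor_mul_ut b l, mul_assoc _ (tor l⁻¹) (tor l), tor_mul,
    inv_mul_cancel, show tor (1 : Fˣ) = (1 : Equiv.Perm (V F)) from ut_zero_one, mul_one]

/-- For `q ≥ 7` the third axis is a member. -/
theorem axW_mem_of_seven (h7 : 7 ≤ Nat.card F) : (axW : Set (V F)) ∈ orb A := by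
  classical
  by_contra hW
  -- the squares of the torus act freely on the fixed members
  obtain ⟨S1, hS1, hne1⟩ := exists_Fs_ne hA hF
  let X : Subgroup Fˣ := (powMonoidHom 2).range
  letI : MulAction X (Set (V F)) :=
    { smul := fun x S => tor x.1 • S
      one_smul := fun S => show tor (1 : Fˣ) • S = S by
        rw [show tor (1 : Fˣ) = (1 : Equiv.Perm (V F)) from ut_zero_one, one_smul]
      mul_smul := fun x y S => show tor (x.1 * y.1) • S = tor x.1 • tor y.1 • S by
        rw [← tor_mul, mul_smul] }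
  have hdvd : Nat.card X ∣ (Fs A \ {axZ}).ncard := by
    refine dvd_ncard_of_free _ (Set.toFinite _) ?_ ?_
    · rintro x S ⟨hS, hne⟩
      exact ⟨tor_smul_Fs hA hF _ hS, tor_smul_ne_axZ hA hF _ hne⟩
    · rintro ⟨x, c, rfl⟩ S ⟨hS, hne⟩ h
      by_contra hx
      refine hW ?_
      have hx' : c ^ 2 ≠ 1 := fun e => hx (Subtype.ext e)
      exact eq_axW_of_fix hA hF hS hne (hF.sq_units_ne hx') h ▸ hS.1
  have hX2 : 2 * Nat.card X + 1 = Nat.card F := by
    have hker : Nat.card ((powMonoidHom 2 : Fˣ →* Fˣ).ker) = 2 := by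
      have : ((powMonoidHom 2 : Fˣ →* Fˣ).ker : Set Fˣ) = {1, -1} := by
        ext u
        simp only [SetLike.mem_coe, MonoidHom.mem_ker, powMonoidHom_apply, Set.mem_insert_iff,
          Set.mem_singleton_iff, Units.ext_iff, Units.val_pow_eq_pow_val, Units.val_one, Units.val_neg]
        exact sq_eq_one_iff
      rw [← SetLike.coe_sort_coe, Nat.card_coe_set_eq, this, Set.ncard_pair hF.neg_one_ne.symm]
    have h := Subgroup.card_eq_card_quotient_mul_card_subgroup (powMonoidHom 2 : Fˣ →* Fˣ).ker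
    rw [hker, Nat.card_congr (QuotientGroup.quotientKerEquivRange _).toEquiv, Nat.card_units] at h
    show 2 * Nat.card X + 1 = _
    have := hF.one_lt_card
    change _ = Nat.card X * 2 at h
    omega
  -- the numerical consequences
  rw [Set.ncard_sdiff_singleton_of_mem sref_mem_Fs] at hdvd
  obtain ⟨hek, hpe⟩ := ncard_Fs_dvd hA hF
  have heb := Fs_bound hA hF
  have hnb := near_bound hA hF
  have hob := orb_bound hA hF
  have hkq := card_dvd_orb_sub_one hA hF
  have hk1 := orb_pos hA hF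
  have he2 : 2 ≤ (Fs A).ncard := by
    refine (Set.one_lt_ncard_iff_nontrivial).2 ⟨S1, hS1, axZ, sref_mem_Fs, hne1⟩
  set q := Nat.card F with hq
  set m := Nat.card X with hm
  set e := (Fs A).ncard with he
  set k := (orb A).ncard with hk
  have he_eq : e = m + 1 := by
    have h1 : e ≤ q + 1 := by
      by_contra h
      have : (q + 2) * (q - 1) ≤ e * (q - 1) := Nat.mul_le_mul_right _ (by omega)
      obtain ⟨r, hr⟩ : ∃ r, q = r + 7 := ⟨q - 7, by omega⟩
      rw [hr, show r + 7 - 1 = r + 6 by omega] at this heb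
      nlinarith
    obtain ⟨t, ht⟩ := hdvd
    have ht1 : t ≠ 0 := fun h => by rw [h, mul_zero] at ht; omega
    have ht3 : t < 3 := by
      by_contra h
      have : m * 3 ≤ m * t := Nat.mul_le_mul_left _ (by omega)
      omega
    obtain rfl | rfl : t = 1 ∨ t = 2 := by omega
    · omega
    · exfalso
      refine hpe ?_
      rw [show e = q by omega, hq, hF.card]
      exact dvd_pow_self p (by have := hF.pos; omega)
  obtain ⟨j, hj⟩ := hkq
  have hkj : k = 1 + q * j := by omega
  have hj2 : j ≤ q + 1 := by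
    by_contra h
    have h1 : 1 + q * (q + 2) ≤ k := by rw [hkj]; have := Nat.mul_le_mul_left q (show q + 2 ≤ j by omega); omega
    have h2 : (1 + q * (q + 2)) * (q - 1) ≤ k * (q - 1) := Nat.mul_le_mul_right _ h1
    obtain ⟨r, hr⟩ : ∃ r, q = r + 7 := ⟨q - 7, by omega⟩
    rw [hr, show r + 7 - 1 = r + 6 by omega] at h2 hob
    nlinarith
  have hjm : m ≤ j := by
    have : q * m ≤ q * j := by rw [he_eq] at hnb; simpa [hkj] using hnb
    exact Nat.le_of_mul_le_mul_left this (by omega)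
  have hje : j = m + 2 := by
    rw [he_eq] at hek
    obtain ⟨r, hr⟩ := hek
    rw [hkj] at hr
    -- `q = 2 (m + 1) - 1`
    have h1 : (m + 1) ∣ j - 1 := by
      refine ⟨2 * j - r, ?_⟩
      have h2 : q * j + j = (m + 1) * (2 * j) := by rw [← hX2]; ring
      rw [Nat.mul_sub]
      omega
    obtain ⟨s, hs⟩ := h1
    have hs2 : s < 2 := by
      by_contra h
      have : (m + 1) * 2 ≤ (m + 1) * s := Nat.mul_le_mul_left _ (by omega)
      omega
    interval_cases s <;> omega
  -- two orbits of translations are left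
  set R : Set (Set (V F)) := (orb A \ {axZ}) \ near A with hR
  have hRcard : R.ncard = q * 2 := by
    rw [hR, Set.ncard_sdiff (near_subset hA hF) (Set.toFinite _), ncard_near hA hF,
      Set.ncard_sdiff_singleton_of_mem (axZ_mem_orb (A := A)), ← he, ← hk, hkj, he_eq, hje,
      Nat.add_sub_cancel_left, Nat.add_sub_cancel, ← Nat.mul_sub]
    congr 1
    omega
  have hRut : ∀ (b : F), ∀ T ∈ R, ut b 1 • T ∈ R := by
    rintro b T ⟨⟨hT, hne⟩, hnn⟩
    refine ⟨⟨orb_smul (hA.ut_mem _ _) hT, fun h => hne ?_⟩, fun h => hnn ?_⟩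
    · have h' : ut b 1 • T = ut b 1 • (axZ : Set (V F)) :=
        (Set.mem_singleton_iff.1 h).trans (mem_Bsub.1 (ut_mem_Bsub hA hF _ _)).2.symm
      exact MulAction.injective _ h'
    · obtain ⟨b', S, hS, hneS, hT'⟩ := h
      refine ⟨b' + -b, S, hS, hneS, ?_⟩
      have h1 := congrArg (fun W => ut (-b) 1 • W) hT'
      simpa only [← mul_smul, ut_mul, Units.val_one, mul_one, add_neg_cancel, ut_zero_one, one_smul]
        using h1
  have hRtor : ∀ (l : Fˣ), ∀ T ∈ R, tor l • T ∈ R := by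
    rintro l T ⟨⟨hT, hne⟩, hnn⟩
    refine ⟨⟨orb_smul (hA.ut_mem _ _) hT, tor_smul_ne_axZ hA hF l hne⟩, fun h => hnn ?_⟩
    have := tor_smul_near hA hF l⁻¹ h
    rwa [← mul_smul, tor_mul, inv_mul_cancel,
      show tor (1 : Fˣ) = (1 : Equiv.Perm (V F)) from ut_zero_one, one_smul] at this
  obtain ⟨T0, hT0⟩ : R.Nonempty := Set.nonempty_of_ncard_ne_zero (by rw [hRcard]; omega)
  have hfree : ∀ T ∈ R, Function.Injective fun b : F => ut b 1 • T := by
    intro T hT b b' h
    simp only at h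
    have h1 := congrArg (fun W => ut (-b') 1 • W) h
    simp only [← mul_smul, ut_mul, Units.val_one, mul_one, add_neg_cancel, ut_zero_one, one_smul] at h1
    have := free_ut hA hF hT.1.1 hT.1.2 h1
    linear_combination this
  have hcard_range : ∀ T ∈ R, (Set.range fun b : F => ut b 1 • T).ncard = q := fun T hT => by
    rw [Set.ncard_range_of_injective (hfree T hT)]
  -- two classes
  have hthree : ∀ T1 ∈ R, ∀ T2 ∈ R, ∀ T3 ∈ R, (∀ b : F, ut b 1 • T1 ≠ T2) → (∀ b : F, ut b 1 • T2 ≠ T3) →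
      ∃ b : F, ut b 1 • T1 = T3 := by
    intro T1 h1 T2 h2 T3 h3 h12 h23
    set O1 := Set.range fun b : F => ut b 1 • T1 with hO1
    set O2 := Set.range fun b : F => ut b 1 • T2 with hO2
    have hd : Disjoint O1 O2 := by
      rw [Set.disjoint_left]
      rintro _ ⟨b, rfl⟩ ⟨b', hb'⟩
      simp only at hb'
      refine h12 (b + -b') ?_
      have := congrArg (fun W => ut (-b') 1 • W) hb'
      simp only [← mul_smul, ut_mul, Units.val_one, mul_one, add_neg_cancel, ut_zero_one, one_smul] at this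
      exact this.symm
    have hu : O1 ∪ O2 = R := by
      refine Set.eq_of_subset_of_ncard_le (Set.union_subset ?_ ?_) ?_ (Set.toFinite _)
      · rintro _ ⟨b, rfl⟩; exact hRut b _ h1
      · rintro _ ⟨b, rfl⟩; exact hRut b _ h2
      · rw [Set.ncard_union_eq hd, hcard_range _ h1, hcard_range _ h2, hRcard, mul_two]
    rcases hu.symm ▸ h3 with ⟨b, hb⟩ | ⟨b, hb⟩
    · exact ⟨b, hb⟩
    · exact absurd hb (h23 b)
  have hpres : ∀ (c : Fˣ), ∀ T ∈ R, ∃ b : F, ut b 1 • T = tor (c ^ 2) • T := by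
    intro c T hT
    rw [sq, ← tor_mul, mul_smul]
    by_cases h : ∃ b : F, ut b 1 • T = tor c • T
    · obtain ⟨b, hb⟩ := h
      refine ⟨b + b * ((c⁻¹ : Fˣ) : F), ?_⟩
      rw [← hb, ← mul_smul (tor c), show tor c * ut b 1 = ut (b * ((c⁻¹ : Fˣ) : F)) 1 * tor c by
        rw [← tor_mul_ut b c, mul_assoc _ (tor c⁻¹) (tor c), tor_mul, inv_mul_cancel,
          show tor (1 : Fˣ) = (1 : Equiv.Perm (V F)) from ut_zero_one, mul_one], mul_smul, ← hb,
        ← mul_smul, ut_mul, Units.val_one, mul_one, mul_one]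
    · push Not at h
      refine hthree T hT (tor c • T) (hRtor _ _ hT) _ (hRtor _ _ (hRtor _ _ hT)) h fun b hb => ?_
      refine h (b * (c : F)) (MulAction.injective (tor c) ?_)
      show tor c • _ = tor c • _
      rw [← mul_smul, show tor c * ut (b * (c : F)) 1 = ut b 1 * tor c by
        have := tor_mul_ut (b * (c : F)) c
        rw [mul_assoc b, Units.mul_inv, mul_one] at this
        rw [← this, mul_assoc _ (tor c⁻¹) (tor c), tor_mul, inv_mul_cancel,
          show tor (1 : Fˣ) = (1 : Equiv.Perm (V F)) from ut_zero_one, mul_one], mul_smul]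
      exact hb
  obtain ⟨c, hc⟩ := hF.exists_sq_ne h7
  set l := c ^ 2 with hl
  have hli : (1 : F) - ((l⁻¹ : Fˣ) : F) ≠ 0 := fun h => hc (by
    rw [← inv_eq_one]
    exact Units.ext (by rw [Units.val_one]; exact (sub_eq_zero.1 h).symm))
  obtain ⟨b0, hb0⟩ := hpres c T0 hT0
  have hcomm : ∀ b : F, tor l * ut b 1 = ut (b * ((l⁻¹ : Fˣ) : F)) 1 * tor l := fun b => by
    rw [← tor_mul_ut b l, mul_assoc _ (tor l⁻¹) (tor l), tor_mul, inv_mul_cancel,
      show tor (1 : Fˣ) = (1 : Equiv.Perm (V F)) from ut_zero_one, mul_one]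
  set T := ut (b0 / (1 - ((l⁻¹ : Fˣ) : F))) 1 • T0 with hT
  have hTR : T ∈ R := hRut _ _ hT0
  have hTfix : tor l • T = T := by
    rw [hT, ← mul_smul, hcomm, mul_smul, ← hb0, ← mul_smul, ut_mul, Units.val_one, mul_one, mul_one]
    congr 2
    field_simp [hli]
    ring
  refine hW ?_
  have := eq_axW_of_all hA hF h7 hTR.1.1 hTR.1.2 fun c' => ?_
  · exact this ▸ hTR.1.1
  obtain ⟨b, hb⟩ := hpres c' T hTR
  rw [← hb]
  have hfix' : tor l • (tor (c' ^ 2) • T) = tor (c' ^ 2) • T := by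
    rw [← mul_smul, tor_mul, mul_comm, ← tor_mul, mul_smul, hTfix]
  rw [← hb, ← mul_smul, hcomm, mul_smul, hTfix] at hfix'
  have h0 := hfree T hTR hfix'
  have hb0' : b = 0 := by
    have : b * ((1 : F) - ((l⁻¹ : Fˣ) : F)) = 0 := by linear_combination -h0
    exact (mul_eq_zero.1 this).resolve_right hli
  rw [hb0', ut_zero_one, one_smul]

/-- After a change of coordinates the third axis is a member. -/
theorem exists_model : ∃ τ : Equiv.Perm (V F), Levi (A.map (MulAut.conj τ).toMonoidHom) ∧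
    (axW : Set (V F)) ∈ orb (A.map (MulAut.conj τ).toMonoidHom) := by
  rcases hF.card_cases with h3 | h7
  · -- `q = 3`
    obtain ⟨S, hS, hne⟩ := exists_Fs_ne hA hF
    obtain ⟨v, hv, hv0⟩ : ∃ v ∈ S, v ≠ 0 := by
      by_contra! h
      have : S.ncard ≤ 1 := (Set.ncard_le_one (Set.toFinite S)).2 fun a ha b hb => (h a ha).trans (h b hb).symm
      rw [ncard_member hS.1] at this; omega
    have hy : v.2.1 = 0 := by
      have h := hS.2 v hv
      rw [sref_apply, Prod.ext_iff, Prod.ext_iff] at h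
      have h2 : (2 : F) * v.2.1 = 0 := by linear_combination -h.2.1
      simpa [hF.two] using h2
    have hw : v.2.2 ≠ 0 := fun h => hv0 (mem_axZ_member hA hF hS.1 hne hv hy h)
    set c : F := -v.1 / v.2.2 with hc
    let τ : Equiv.Perm (V F) :=
      ⟨fun u => (u.1 + c * u.2.2, u.2.1, u.2.2), fun u => (u.1 - c * u.2.2, u.2.1, u.2.2),
        fun u => by simp, fun u => by simp⟩
    have hτadd : ∀ a b, τ (a + b) = τ a + τ b := fun a b => by
      show (_, _, _) = ((_, _, _) : V F) + (_, _, _)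
      simp only [Prod.mk_add_mk, Prod.fst_add, Prod.snd_add, Prod.mk.injEq, and_true]
      ring
    have hτi : ∀ a b, τ⁻¹ (a + b) = τ⁻¹ a + τ⁻¹ b := fun a b => τ.injective (by
      rw [hτadd]; simp)
    have hl1 : ∀ l : Fˣ, ((l : F)) ^ 2 = 1 := fun l => by
      have h := FiniteField.pow_card_sub_one_eq_one (l : F) l.ne_zero
      rwa [← Nat.card_eq_fintype_card, h3] at h
    have hcomm : ∀ b l, τ * ut b l = ut b l * τ := fun b l => Equiv.ext fun u => by
      show ((ut b l u).1 + c * (ut b l u).2.2, (ut b l u).2.1, (ut b l u).2.2) =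
        ut b l (u.1 + c * u.2.2, u.2.1, u.2.2)
      simp only [ut_apply, hl1, one_mul, Prod.mk.injEq, and_true]
      ring
    have hτe : ∀ z, τ ((z, 0, 0) : V F) = (z, 0, 0) := fun z => by
      show (_, _, _) = _
      simp
    have hτe' : ∀ z, τ⁻¹ ((z, 0, 0) : V F) = (z, 0, 0) := fun z => by
      conv_lhs => rw [← hτe z]
      exact τ.symm_apply_apply _
    have hτZ : τ • (axZ : Set (V F)) = axZ := by
      rw [axZ_eq, Set.smul_set_range]
      exact congrArg Set.range (funext hτe)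
    refine ⟨τ, ⟨?_, ?_, ?_, ?_, ?_⟩, ?_⟩
    · rintro _ ⟨a, ha, rfl⟩ x y
      show τ (a (τ⁻¹ (x + y))) = τ (a (τ⁻¹ x)) + τ (a (τ⁻¹ y))
      rw [hτi, hA.add a ha, hτadd]
    · intro b l
      refine ⟨ut b l, hA.ut_mem b l, ?_⟩
      show τ * ut b l * τ⁻¹ = ut b l
      rw [hcomm, mul_inv_cancel_right]
    · rintro _ ⟨a, ha, rfl⟩ z hz h
      replace h : τ (a (τ⁻¹ (z, 0, 0))) = (z, 0, 0) := h
      rw [hτe'] at h
      have h' := congrArg (τ⁻¹ : Equiv.Perm (V F)) h
      rw [hτe'] at h'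
      rw [← Equiv.Perm.mul_apply, inv_mul_cancel, Equiv.Perm.one_apply] at h'
      obtain ⟨b, l, rfl⟩ := hA.stab a ha z hz h'
      refine ⟨b, l, ?_⟩
      show τ * ut b l * τ⁻¹ = ut b l
      rw [hcomm, mul_inv_cancel_right]
    · obtain ⟨z, hz, hnt⟩ := hA.notTrans
      refine ⟨z, hz, ?_⟩
      rintro _ ⟨a, ha, rfl⟩ h
      refine hnt a ha ?_
      replace h : τ (a (τ⁻¹ (1, 0, 0))) = (z, 0, 0) := h
      rw [hτe'] at h
      exact τ.injective (h.trans (hτe z).symm)
    · obtain ⟨a, ha, hmov⟩ := hA.moves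
      refine ⟨_, ⟨a, ha, rfl⟩, fun h => hmov ?_⟩
      change (τ * a * τ⁻¹) • (axZ : Set (V F)) = axZ at h
      rw [mul_smul, mul_smul, inv_smul_eq_iff.2 hτZ.symm] at h
      exact MulAction.injective τ (h.trans hτZ.symm)
    · obtain ⟨a, ha, haS⟩ := hS.1
      refine ⟨_, ⟨a, ha, rfl⟩, ?_⟩
      show (τ * a * τ⁻¹) • (axZ : Set (V F)) = axW
      rw [mul_smul, mul_smul, inv_smul_eq_iff.2 hτZ.symm, haS]
      -- the image of the line through `v`
      have hv' : τ v ∈ (axW : Set (V F)) := ⟨by show v.1 + c * v.2.2 = 0; rw [hc]; field_simp; ring, hy⟩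
      have hS3 : S = {0, v, -v} := by
        refine (Set.eq_of_subset_of_ncard_le ?_ ?_ (Set.toFinite _)).symm
        · rintro x (rfl | rfl | rfl)
          exacts [zero_mem_member hA hS.1, hv, neg_mem_member hA hS.1 hv]
        · rw [ncard_member hS.1, h3]
          refine le_of_eq (Set.ncard_eq_three.2 ⟨0, v, -v, Ne.symm hv0, ?_, ?_, rfl⟩).symm
          · exact fun h => hv0 (neg_eq_zero.1 h.symm)
          · intro h
            refine hv0 ?_
            have h2 : (2 : F) • v = 0 := by rw [two_smul]; exact add_eq_zero_iff_eq_neg.2 h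
            simpa [hF.two] using h2
      refine Set.eq_of_subset_of_ncard_le ?_
        (by rw [Set.ncard_smul_set, ncard_member hS.1, ncard_axW]) (Set.toFinite _)
      rintro _ ⟨x, hx, rfl⟩
      show τ x ∈ axW
      have hz0 : τ (0 : V F) = 0 := hτe 0
      rw [hS3] at hx
      rcases hx with rfl | rfl | rfl
      · rw [hz0]; exact ⟨rfl, rfl⟩
      · exact hv'
      · have hn : τ (-v) = -τ v := eq_neg_of_add_eq_zero_left (by rw [← hτadd, neg_add_cancel, hz0])
        rw [hn]; exact ⟨by simp [hv'.1], by simp [hv'.2]⟩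
  · refine ⟨1, ?_⟩
    have h1 : A.map (MulAut.conj (1 : Equiv.Perm (V F))).toMonoidHom = A := by
      rw [map_one]; exact Subgroup.map_id A
    rw [h1]
    exact ⟨hA, axW_mem_of_seven hA hF h7⟩

/-- The exchange of the two axes. -/
theorem swap (hW : (axW : Set (V F)) ∈ orb A) :
    (∃ g ∈ Dsub A, g • (axZ : Set (V F)) = axW ∧ g • (axW : Set (V F)) = axZ) ∧
      ∀ h ∈ Hsub A, h • (axW : Set (V F)) = axW := by
  have hWF : (axW : Set (V F)) ∈ Fs A := by
    refine ⟨hW, fun v hv => ?_⟩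
    obtain ⟨h1, h2⟩ := hv
    rw [sref_apply]
    ext <;> simp [h2]
  have hDFs : ∀ d ∈ Dsub A, ∀ S ∈ Fs A, d • S ∈ Fs A := by
    intro d hd S hS
    obtain ⟨hdA, hdc⟩ := mem_Dsub.1 hd
    refine ⟨orb_smul hdA hS.1, ?_⟩
    rintro _ ⟨v, hv, rfl⟩
    show sref (d v) = d v
    rw [← Equiv.Perm.mul_apply, ← hdc, Equiv.Perm.mul_apply, hS.2 v hv]
  obtain ⟨⟨g, hg⟩, hgZ⟩ : (axW : Set (V F)) ∈ MulAction.orbit (Dsub A) (axZ : Set (V F)) :=
    Fs_eq_orbit hA hF ▸ hWF
  replace hgZ : g • (axZ : Set (V F)) = axW := hgZ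
  have hgW : g • (axW : Set (V F)) ≠ axW := fun h =>
    axW_ne_axZ (MulAction.injective g (h.trans hgZ.symm))
  -- every element of `H` fixes the third axis
  have hfix : ∀ h ∈ Hsub A, h • (axW : Set (V F)) = axW := by
    intro h hh
    obtain ⟨hhA, hhZ, hhc⟩ := mem_Hsub.1 hh
    have hm := hDFs h (mem_Dsub.2 ⟨hhA, hhc⟩) _ hWF
    have hne : h • (axW : Set (V F)) ≠ axZ := fun e =>
      axW_ne_axZ (MulAction.injective h (e.trans hhZ.symm))
    rcases hF.card_cases with h3 | h7
    · -- `q = 3`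
      by_contra hne'
      have h3' : 3 ≤ (Fs A).ncard := by
        rw [← Set.ncard_eq_three.2 ⟨axZ, axW, h • axW, axW_ne_axZ.symm, hne.symm, Ne.symm hne', rfl⟩]
        refine Set.ncard_le_ncard ?_ (Set.toFinite _)
        rintro x (rfl | rfl | rfl)
        exacts [sref_mem_Fs, hWF, hm]
      obtain ⟨hek, hpe⟩ := ncard_Fs_dvd hA hF
      have heb := Fs_bound hA hF
      have hnb := near_bound hA hF
      have hob := orb_bound hA hF
      have hkq := card_dvd_orb_sub_one hA hF
      have hk1 := orb_pos hA hF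
      have hp3 : p = 3 := by
        have h1 : p ∣ 3 := h3 ▸ hF.card ▸ dvd_pow_self p (by have := hF.pos; omega)
        exact (Nat.prime_dvd_prime_iff_eq hF.prime Nat.prime_three).1 h1
      subst hp3
      rw [h3] at heb hnb hob hkq
      have he : (Fs A).ncard = 4 := by omega
      rw [he] at hek hnb
      omega
    · obtain ⟨c, hc⟩ := hF.exists_sq_ne h7
      set μ := c ^ 2 with hμ
      obtain ⟨v, hv, hv0⟩ : ∃ v ∈ (axZ : Set (V F)), v ≠ 0 := ⟨(1, 0, 0), ⟨rfl, rfl⟩, by simp⟩
      have hm2 : h⁻¹ v ∈ (axZ : Set (V F)) := by rw [← mem_smul_iff, hhZ]; exact hv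
      obtain ⟨b, μ', hb⟩ := fix_axZ hA (a := h * tor μ * h⁻¹)
        (mul_mem (mul_mem hhA (hA.ut_mem _ _)) (inv_mem hhA)) hv hv0
        (by show h (tor μ (h⁻¹ v)) = v; rw [ut_fix hm2]; exact h.apply_symm_apply _)
      have hb0 : b = 0 := by
        have hcs : h * tor μ * h⁻¹ * sref = sref * (h * tor μ * h⁻¹) := by
          have h' : h⁻¹ * sref = sref * h⁻¹ := by
            rw [eq_mul_inv_iff_mul_eq, mul_assoc, ← hhc, inv_mul_cancel_left]
          rw [mul_assoc, h', ← mul_assoc, mul_assoc h, tor_comm_sref, ← mul_assoc h, hhc]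
          simp only [mul_assoc]
        rw [hb, ut_mul, ut_mul] at hcs
        have := (ut_inj hcs).1
        simp only [Units.val_neg, Units.val_one, mul_neg, mul_one, zero_add, zero_mul, add_zero] at this
        have : (2 : F) * b = 0 := by linear_combination -this
        simpa [hF.two] using this
      rw [hb0] at hb
      have hμ' : μ' ^ 2 ≠ 1 := by
        intro e
        refine hF.sq_units_ne hc ?_
        have h1 : (h * tor μ * h⁻¹) * (h * tor μ * h⁻¹) = 1 := by
          rw [hb, tor_mul, ← sq, e]; exact ut_zero_one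
        have h2 : tor (μ * μ) = (1 : Equiv.Perm (V F)) := by
          rw [← tor_mul]
          calc tor μ * tor μ = h⁻¹ * ((h * tor μ * h⁻¹) * (h * tor μ * h⁻¹)) * h := by group
            _ = 1 := by rw [h1]; group
        rw [← ut_zero_one] at h2
        rw [sq]; exact (ut_inj h2).2
      refine eq_axW_of_fix hA hF hm hne hμ' ?_
      rw [show tor μ' = h * tor μ * h⁻¹ from hb.symm, mul_smul, inv_smul_smul, mul_smul, tor_smul_axW]
  refine ⟨⟨g, hg, hgZ, ?_⟩, hfix⟩
  have hmem := hDFs g hg _ hWF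
  by_contra hne
  obtain ⟨hgA, hgc⟩ := mem_Dsub.1 hg
  rcases hF.card_cases with h3 | h7
  · have h3' : 3 ≤ (Fs A).ncard := by
      rw [← Set.ncard_eq_three.2 ⟨axZ, axW, g • axW, axW_ne_axZ.symm, Ne.symm hne, Ne.symm hgW, rfl⟩]
      refine Set.ncard_le_ncard ?_ (Set.toFinite _)
      rintro x (rfl | rfl | rfl)
      exacts [sref_mem_Fs, hWF, hmem]
    obtain ⟨hek, hpe⟩ := ncard_Fs_dvd hA hF
    have heb := Fs_bound hA hF
    have hnb := near_bound hA hF
    have hob := orb_bound hA hF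
    have hkq := card_dvd_orb_sub_one hA hF
    have hk1 := orb_pos hA hF
    have hp3 : p = 3 := by
      have h1 : p ∣ 3 := h3 ▸ hF.card ▸ dvd_pow_self p (by have := hF.pos; omega)
      exact (Nat.prime_dvd_prime_iff_eq hF.prime Nat.prime_three).1 h1
    subst hp3
    rw [h3] at heb hnb hob hkq
    have he : (Fs A).ncard = 4 := by omega
    rw [he] at hek hnb
    omega
  · obtain ⟨c, hc⟩ := hF.exists_sq_ne h7
    set k := g⁻¹ * tor (c ^ 2) * g with hk
    have hkH : k ∈ Hsub A := by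
      refine mem_Hsub.2 ⟨mul_mem (mul_mem (inv_mem hgA) (hA.ut_mem _ _)) hgA, ?_, ?_⟩
      · rw [hk, mul_smul, mul_smul, hgZ, tor_smul_axW, inv_smul_eq_iff, hgZ]
      · have h' : g⁻¹ * sref = sref * g⁻¹ := by
          rw [eq_mul_inv_iff_mul_eq, mul_assoc, ← hgc, inv_mul_cancel_left]
        rw [hk, mul_assoc, hgc, ← mul_assoc, mul_assoc g⁻¹, tor_comm_sref, ← mul_assoc g⁻¹, h']
        simp only [mul_assoc]
    have h1 := hfix k hkH
    rw [hk, mul_smul, mul_smul, inv_smul_eq_iff] at h1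
    exact hgW (eq_axW_of_fix hA hF hmem hne (hF.sq_units_ne hc) h1)

end Cfsg.Agent.SympLevi
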